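import Cfsg.Agent.Lib.Perm.Trans.PauliMax.Gates
import Cfsg.Agent.Lib.SU.Ctx
import Mathlib.GroupTheory.QuotientGroup.Basic
import Mathlib.GroupTheory.PGroup

/-!
# Groups of Pauli matrices of unitary isometries

`UPauli C R i`: a group of Pauli matrices consisting of isometries of the standard hermitian form of dimension `n`, of
order `4 * n ^ 2`.
-/

set_option autoImplicit false
set_option linter.all false

namespace CfsgLib.Perm.Trans.PauliMax.UP

open scoped Matrix
open Matrix Cfsg.Geo CfsgLib.Perm.Asch CfsgLib.Perm.Trans.PauliMax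

variable {F : Type*} [Field F] {q : ℕ} (C : CfsgLib.SU.UCtx F q)

section Adj

variable {a b c : Type*}

/-- the adjoint -/
def adj (X : Matrix a b F) : Matrix b a F := (X.map C.bar)ᵀ

theorem adj_mul [Fintype b] (X : Matrix a b F) (Y : Matrix b c F) : adj C (X * Y) = adj C Y * adj C X := by
  rw [adj, adj, adj, Matrix.map_mul, transpose_mul]

theorem adj_add (X Y : Matrix a b F) : adj C (X + Y) = adj C X + adj C Y := by
  ext i j; simp [adj]

theorem adj_sub (X Y : Matrix a b F) : adj C (X - Y) = adj C X - adj C Y := by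
  ext i j; simp [adj]

theorem adj_smul (t : F) (X : Matrix a b F) : adj C (t • X) = C.bar t • adj C X := by
  ext i j; simp [adj]

theorem adj_one [DecidableEq a] : adj C (1 : Matrix a a F) = 1 := by
  rw [adj, Matrix.map_one _ (map_zero _) (map_one _), transpose_one]

theorem adj_adj (X : Matrix a b F) : adj C (adj C X) = X := by
  ext i j; simp [adj, C.bar_bar]

theorem adj_neg (X : Matrix a b F) : adj C (-X) = -adj C X := by
  ext i j; simp [adj]

end Adj

theorem form_mulVec {n m : ℕ} (X : Matrix (Fin n) (Fin m) F) (u : Fin m → F) (w : Fin n → F) :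
    C.form (X *ᵥ u) w = C.form u (adj C X *ᵥ w) := by
  simp only [CfsgLib.SU.UCtx.form, mulVec, dotProduct, adj, transpose_apply, map_apply, map_sum, map_mul, C.bar_bar,
    Finset.sum_mul, Finset.mul_sum]
  rw [Finset.sum_comm]
  exact Finset.sum_congr rfl fun j _ => Finset.sum_congr rfl fun i _ => by ring

theorem herm_eq {n : ℕ} (u v : Fin n → F) : Cfsg.hermForm n F q u v = C.form u v := C.hermForm_eq u v

theorem mem_GU {n : ℕ} {g : GL (Fin n) F} :
    g ∈ Cfsg.GU n F q ↔ adj C (g : Matrix (Fin n) (Fin n) F) * (g : Matrix (Fin n) (Fin n) F) = 1 := by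
  constructor
  · intro h
    refine Matrix.ext_of_mulVec_single fun j => ?_
    rw [one_mulVec, ← sub_eq_zero]
    refine C.eq_zero_of_form' fun v => ?_
    rw [C.form_sub_right, ← mulVec_mulVec, ← form_mulVec, ← herm_eq, ← herm_eq, sub_eq_zero]
    exact h v (Pi.single j 1)
  · intro h u w
    show Cfsg.hermForm n F q ((g : Matrix (Fin n) (Fin n) F) *ᵥ u) ((g : Matrix (Fin n) (Fin n) F) *ᵥ w) = _
    rw [herm_eq C, herm_eq C, form_mulVec, mulVec_mulVec, h, one_mulVec]

theorem bar_sp_adj {n : ℕ} {U : Matrix (Fin n) (Fin n) F} (hU : adj C U = U) (x y : F) :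
    adj C (sp U x y) = sp U (C.bar x) (C.bar y) := by
  simp [sp, adj_add, adj_smul, adj_one, hU, map_ofNat]

/-- the hypotheses -/
structure UPauli {n : ℕ} (R : Subgroup (GL (Fin n) F)) (i : F) : Prop where
  pauli : Pauli R i
  nF : (n : F) ≠ 0
  iso : R ≤ Cfsg.GU n F q
  card : Nat.card R = 4 * (n * n)

variable {C} {n : ℕ} {R : Subgroup (GL (Fin n) F)} {i : F}

/-- `g` is a scalar -/
def IsScal (g : GL (Fin n) F) : Prop := ∃ c : F, (g : Matrix (Fin n) (Fin n) F) = c • 1

theorem isScal_iff {g : GL (Fin n) F} : IsScal g ↔ g ∈ scalars (Fin n) F := by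
  constructor
  · rintro ⟨c, hc⟩
    by_cases hn : n = 0
    · subst hn
      exact ⟨1, Subsingleton.elim _ _⟩
    · have hc0 : c ≠ 0 := fun h => by
        haveI : Nonempty (Fin n) := ⟨⟨0, Nat.pos_of_ne_zero hn⟩⟩
        exact g.ne_zero (by rw [hc, h, zero_smul])
      exact mem_scalars_sch.2 ⟨Units.mk0 c hc0, Units.ext (by rw [sch_coe, hc]; rfl)⟩
  · intro h
    obtain ⟨c, rfl⟩ := mem_scalars_sch.1 h
    exact ⟨c, sch_coe c⟩

theorem IsScal.comm {g : GL (Fin n) F} (h : IsScal g) (x : GL (Fin n) F) : g * x = x * g := by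
  obtain ⟨c, hc⟩ := h
  exact Units.ext (by rw [Units.val_mul, Units.val_mul, hc, smul_mul_assoc, one_mul, mul_smul_comm, mul_one])

theorem UPauli.nonempty (hR : UPauli (q := q) R i) : Nonempty (Fin n) :=
  ⟨⟨0, Nat.pos_of_ne_zero fun h => hR.nF (by simp [h])⟩⟩

theorem UPauli.bar_i (hR : UPauli (q := q) R i) (C : CfsgLib.SU.UCtx F q) : C.bar i = -i := by
  haveI := hR.nonempty
  have h := (mem_GU C).1 (hR.iso hR.pauli.iu_mem)
  rw [sch_coe, adj_smul, adj_one, smul_mul_assoc, one_mul, smul_smul] at h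
  have h1 := congrFun (congrFun h (Classical.arbitrary _)) (Classical.arbitrary _)
  simp [Pauli.iu] at h1
  linear_combination (-i) * h1 + C.bar i * hR.pauli.ii

theorem UPauli.scal_cases (hR : UPauli (q := q) R i) {r : GL (Fin n) F} (hr : r ∈ R) {c : F}
    (hc : (r : Matrix (Fin n) (Fin n) F) = c • 1) : c ^ 4 = 1 := by
  haveI := hR.nonempty
  rcases hR.pauli.square r hr with h | h <;>
  · rw [hc, smul_mul_assoc, one_mul, smul_smul] at h
    have h1 := congrFun (congrFun h (Classical.arbitrary _)) (Classical.arbitrary _)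
    simp at h1
    first
    | linear_combination (c * c + 1) * h1
    | linear_combination (c * c - 1) * h1

theorem UPauli.scal_mem (hR : UPauli (q := q) R i) {g : GL (Fin n) F} {c : F}
    (hc : (g : Matrix (Fin n) (Fin n) F) = c • 1) (h4 : c ^ 4 = 1) : g ∈ R := by
  have hc0 : c ≠ 0 := fun h => by simp [h] at h4
  have := hR.pauli.scal (Units.mk0 c hc0) (Units.ext (by simpa using h4))
  rwa [show sch (Fin n) F (Units.mk0 c hc0) = g from Units.ext (by rw [sch_coe, hc]; rfl)] at this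

theorem UPauli.trace_zero (hR : UPauli (q := q) R i) {r : GL (Fin n) F} (hr : r ∈ R) (hns : ¬ IsScal r) :
    (r : Matrix (Fin n) (Fin n) F).trace = 0 := by
  haveI := hR.nonempty
  obtain ⟨s, hs, h⟩ := hR.pauli.exists_anti hr hns
  have h1 : ((s : Matrix (Fin n) (Fin n) F) * r * ((s⁻¹ : GL (Fin n) F) : Matrix (Fin n) (Fin n) F)).trace =
      (r : Matrix (Fin n) (Fin n) F).trace := by rw [trace_mul_cycle, Units.inv_mul, one_mul]
  rw [show (s : Matrix (Fin n) (Fin n) F) * r = -((r : Matrix (Fin n) (Fin n) F) * s) by rw [h, neg_neg],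
    neg_mul, mul_assoc, Units.mul_inv, mul_one, trace_neg] at h1
  exact (mul_eq_zero.1 (show (2 : F) * (r : Matrix (Fin n) (Fin n) F).trace = 0 by linear_combination -h1)).resolve_left
    hR.pauli.two

/-- what commutes or anticommutes with every element is a multiple of an element -/
theorem UPauli.mem_of_fix (hR : UPauli (q := q) R i) (g : GL (Fin n) F)
    (hfix : ∀ x ∈ R, (x : Matrix (Fin n) (Fin n) F) * g = (g : Matrix (Fin n) (Fin n) F) * x ∨
      (x : Matrix (Fin n) (Fin n) F) * g = -((g : Matrix (Fin n) (Fin n) F) * x)) :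
    ∃ r ∈ R, ∃ c : F, (g : Matrix (Fin n) (Fin n) F) = c • (r : Matrix (Fin n) (Fin n) F) := by
  haveI := hR.nonempty
  obtain ⟨r, hr, hne⟩ : ∃ r ∈ R, ((g : Matrix (Fin n) (Fin n) F) * r).trace ≠ 0 := by
    by_contra hcon
    push Not at hcon
    have hall : ∀ Y : Matrix (Fin n) (Fin n) F, ((g : Matrix (Fin n) (Fin n) F) * Y).trace = 0 := by
      intro Y
      have hY : Y ∈ Submodule.span F (matrixSet R) := hR.pauli.span.symm ▸ Submodule.mem_top
      induction hY using Submodule.span_induction with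
      | mem y hy =>
        obtain ⟨r, hr, rfl⟩ := hy
        exact hcon r hr
      | zero => rw [mul_zero, Matrix.trace_zero]
      | add y z _ _ hy hz => rw [mul_add, trace_add, hy, hz, add_zero]
      | smul c y _ hy => rw [mul_smul_comm, trace_smul, hy, smul_zero]
    have h1 := hall ((g⁻¹ : GL (Fin n) F) : Matrix (Fin n) (Fin n) F)
    rw [Units.mul_inv, trace_one, Fintype.card_fin] at h1
    exact hR.nF h1
  set Y := (g : Matrix (Fin n) (Fin n) F) * r with hY
  obtain ⟨c, hc⟩ := hR.pauli.scalar_of_commute (X := Y) fun x hx => by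
    obtain ⟨e, he⟩ : ∃ e : F, (x : Matrix (Fin n) (Fin n) F) * Y = e • (Y * x) := by
      rcases hfix x hx with h | h <;> rcases hR.pauli.sign x hx r hr with h' | h'
      · exact ⟨1, by rw [one_smul, hY, ← mul_assoc, h, mul_assoc, h', ← mul_assoc]⟩
      · exact ⟨-1, by rw [neg_one_smul, hY, ← mul_assoc, h, mul_assoc, h', mul_neg, ← mul_assoc]⟩
      · exact ⟨-1, by rw [neg_one_smul, hY, ← mul_assoc, h, neg_mul, mul_assoc, h', ← mul_assoc]⟩
      · exact ⟨1, by rw [one_smul, hY, ← mul_assoc, h, neg_mul, mul_assoc, h', mul_neg, neg_neg, ← mul_assoc]⟩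
    have h1 : ((x : Matrix (Fin n) (Fin n) F) * Y * ((x⁻¹ : GL (Fin n) F) : Matrix (Fin n) (Fin n) F)).trace =
        Y.trace := by rw [trace_mul_cycle, Units.inv_mul, one_mul]
    rw [he, smul_mul_assoc, mul_assoc, Units.mul_inv, mul_one, trace_smul, smul_eq_mul] at h1
    have he1 : e = 1 := mul_right_cancel₀ hne (by rw [one_mul, h1])
    rw [he, he1, one_smul]
  refine ⟨r⁻¹, R.inv_mem hr, c, ?_⟩
  have h1 : Y * ((r⁻¹ : GL (Fin n) F) : Matrix (Fin n) (Fin n) F) = (g : Matrix (Fin n) (Fin n) F) := by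
    rw [hY, mul_assoc, Units.mul_inv, mul_one]
  rw [← h1, hc, smul_mul_assoc, one_mul]

theorem UPauli.invo_adj (hR : UPauli (q := q) R i) (C : CfsgLib.SU.UCtx F q) {u : GL (Fin n) F} (hu : Invo R u) :
    adj C (u : Matrix (Fin n) (Fin n) F) = u := by
  have h := (mem_GU C).1 (hR.iso hu.mem)
  have h2 := congrArg (· * (u : Matrix (Fin n) (Fin n) F)) h
  simpa [mul_assoc, hu.sq] using h2

theorem UPauli.G_iso (hR : UPauli (q := q) R i) (C : CfsgLib.SU.UCtx F q) {u : GL (Fin n) F} (hu : Invo R u) :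
    hu.G hR.pauli ∈ Cfsg.GU n F q := by
  rw [mem_GU C, hu.G_val, bar_sp_adj C (hR.invo_adj C hu), map_one, hR.bar_i C, sp_mul hu.sq hR.pauli.two, one_mul,
    neg_mul, hR.pauli.ii, neg_neg, sp_one_one hR.pauli.two]

theorem UPauli.G_det (hR : UPauli (q := q) R i) {u : GL (Fin n) F} (hu : Invo R u) {k : ℕ} (hk : n = 2 * k) :
    (hu.G hR.pauli : Matrix (Fin n) (Fin n) F).det = i ^ k := by
  haveI := hR.nonempty
  obtain ⟨s, hs, hus⟩ := hu.exists_anti hR.pauli
  rw [hu.G_val]
  exact det_sp hu.sq hR.pauli.two (s := s) (by rw [hus, neg_neg]) (by rw [Fintype.card_fin, hk]) i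

theorem UPauli.invo_det (hR : UPauli (q := q) R i) {u : GL (Fin n) F} (hu : Invo R u) {k : ℕ} (hk : n = 2 * (2 * k)) :
    (u : Matrix (Fin n) (Fin n) F).det = 1 := by
  rw [← hu.G_sq hR.pauli, Units.val_mul, det_mul, hR.G_det hu hk, ← pow_two, ← pow_mul,
    show 2 * k * 2 = 4 * k by ring, pow_mul, show i ^ 4 = 1 by linear_combination (i * i - 1) * hR.pauli.ii, one_pow]

theorem UPauli.mem_det (hR : UPauli (q := q) R i) {r : GL (Fin n) F} (hr : r ∈ R) {k : ℕ} (hk : n = 2 * (2 * k)) :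
    (r : Matrix (Fin n) (Fin n) F).det = 1 := by
  haveI := hR.nonempty
  have hscal : ∀ c : F, c ^ 4 = 1 → (c • (1 : Matrix (Fin n) (Fin n) F)).det = 1 := fun c hc => by
    rw [det_smul, Fintype.card_fin, det_one, mul_one, hk, show 2 * (2 * k) = 4 * k by ring, pow_mul, hc, one_pow]
  by_cases hs : IsScal r
  · obtain ⟨c, hc⟩ := hs
    rw [hc, hscal c (hR.scal_cases hr hc)]
  · obtain ⟨v, c, hv, hc0, he⟩ := hR.pauli.exists_invo hr hs
    have hmem : r * v ∈ R := mul_mem hr hv.mem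
    have hval : ((r * v : GL (Fin n) F) : Matrix (Fin n) (Fin n) F) = c • 1 := by
      rw [Units.val_mul, he, smul_mul_assoc, hv.sq]
    rw [he, show c • (v : Matrix (Fin n) (Fin n) F) = (c • 1) * (v : Matrix (Fin n) (Fin n) F) by
      rw [smul_mul_assoc, one_mul], det_mul, hscal c (hR.scal_cases hmem hval), hR.invo_det hv hk, one_mul]

/-- two noncommensurable commuting elements are separated -/
theorem UPauli.exists_sep (hR : UPauli (q := q) R i) {x d : GL (Fin n) F} (hx : x ∈ R) (hxs : ¬ IsScal x) (hd : d ∈ R)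
    (hds : ¬ IsScal d) (hne : ¬ IsScal (x * d)) :
    ∃ z ∈ R, (z : Matrix (Fin n) (Fin n) F) * x = (x : Matrix (Fin n) (Fin n) F) * z ∧
      (z : Matrix (Fin n) (Fin n) F) * d = -((d : Matrix (Fin n) (Fin n) F) * z) := by
  haveI := hR.nonempty
  have hP := hR.pauli
  by_contra hcon
  push Not at hcon
  have hc : ∀ z ∈ R, (z : Matrix (Fin n) (Fin n) F) * x = (x : Matrix (Fin n) (Fin n) F) * z →
      (z : Matrix (Fin n) (Fin n) F) * d = (d : Matrix (Fin n) (Fin n) F) * z := fun z hz h =>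
    (hP.sign z hz d hd).resolve_right (hcon z hz h)
  obtain ⟨t, ht, hxt⟩ := hP.exists_anti hx hxs
  have htx : (t : Matrix (Fin n) (Fin n) F) * x = -((x : Matrix (Fin n) (Fin n) F) * t) := by rw [hxt, neg_neg]
  have hmul : ∀ z ∈ R, (z : Matrix (Fin n) (Fin n) F) * x = -((x : Matrix (Fin n) (Fin n) F) * z) →
      ((z * t : GL (Fin n) F) : Matrix (Fin n) (Fin n) F) * d =
        (d : Matrix (Fin n) (Fin n) F) * (z * t : GL (Fin n) F) := fun z hz h => hc _ (mul_mem hz ht) (by
    rw [Units.val_mul, mul_assoc, htx, mul_neg, ← mul_assoc, h, neg_mul, neg_neg, mul_assoc])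
  rcases hP.sign t ht d hd with htd | htd
  · refine hds (hP.scalar_of_commute fun z hz => ?_)
    rcases hP.sign z hz x hx with h | h
    · exact (hc z hz h).symm
    · have h1 := hmul z hz h
      rw [Units.val_mul, mul_assoc, htd, ← mul_assoc, ← mul_assoc] at h1
      exact ((Units.mul_left_inj t).1 h1).symm
  · refine hne (hP.scalar_of_commute (X := ((x * d : GL (Fin n) F) : Matrix (Fin n) (Fin n) F)) fun z hz => ?_)
    rw [Units.val_mul]
    rcases hP.sign z hz x hx with h | h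
    · rw [mul_assoc, ← hc z hz h, ← mul_assoc, ← h, mul_assoc]
    · have h1 := hmul z hz h
      rw [Units.val_mul, mul_assoc, htd, mul_neg, ← mul_assoc, ← mul_assoc, ← neg_mul] at h1
      have h2 := (Units.mul_left_inj t).1 h1
      rw [mul_assoc, ← h2, mul_neg, ← mul_assoc, ← neg_mul, ← h, mul_assoc]

/-- an involution commuting with two anticommuting elements -/
theorem UPauli.exists_perp (hR : UPauli (q := q) R i) (hn : 3 ≤ n) {x d : GL (Fin n) F} (hx : Invo R x)
    (hd : Invo R d) (hxd : (x : Matrix (Fin n) (Fin n) F) * d = -((d : Matrix (Fin n) (Fin n) F) * x)) :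
    ∃ y, Invo R y ∧ (y : Matrix (Fin n) (Fin n) F) * x = (x : Matrix (Fin n) (Fin n) F) * y ∧
      (y : Matrix (Fin n) (Fin n) F) * d = (d : Matrix (Fin n) (Fin n) F) * y := by
  haveI := hR.nonempty
  have hP := hR.pauli
  obtain ⟨X, hX⟩ : ∃ X, X = (x : Matrix (Fin n) (Fin n) F) := ⟨_, rfl⟩
  obtain ⟨D, hD⟩ : ∃ D, D = (d : Matrix (Fin n) (Fin n) F) := ⟨_, rfl⟩
  simp only [← hX, ← hD] at hxd ⊢
  by_contra hcon
  push Not at hcon
  have hsc : ∀ y ∈ R, (y : Matrix (Fin n) (Fin n) F) * X = X * y → (y : Matrix (Fin n) (Fin n) F) * D = D * y →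
      ∃ c : F, (y : Matrix (Fin n) (Fin n) F) = c • 1 := fun y hy h1 h2 => by_contra fun hns => by
    obtain ⟨v, c, hv, hc0, he⟩ := hP.exists_invo hy hns
    rw [he, smul_mul_assoc, mul_smul_comm] at h1 h2
    exact hcon v hv (smul_right_injective _ hc0 h1) (smul_right_injective _ hc0 h2)
  set S : Submodule F (Matrix (Fin n) (Fin n) F) := Submodule.span F (Set.range ![1, X, D, X * D]) with hS
  have hXX : X * X = 1 := hX ▸ hx.sq
  have hDD : D * D = 1 := hD ▸ hd.sq
  have hdx : D * X = -(X * D) := by rw [hxd, neg_neg]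
  have htop : S = ⊤ := by
    rw [eq_top_iff, ← hP.span, Submodule.span_le]
    rintro _ ⟨z, hz, rfl⟩
    show (z : Matrix (Fin n) (Fin n) F) ∈ S
    have hmem : ∀ (e : GL (Fin n) F) (E : Matrix (Fin n) (Fin n) F) (k : Fin 4), e ∈ R →
        (e : Matrix (Fin n) (Fin n) F) = E → ![1, X, D, X * D] k = E →
        (z : Matrix (Fin n) (Fin n) F) * E * X = X * ((z : Matrix (Fin n) (Fin n) F) * E) →
        (z : Matrix (Fin n) (Fin n) F) * E * D = D * ((z : Matrix (Fin n) (Fin n) F) * E) →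
        E * E = 1 ∨ E * E = -1 → (z : Matrix (Fin n) (Fin n) F) ∈ S := by
      intro e E k he hev hk h1 h2 hsq
      obtain ⟨c, hc⟩ := hsc (z * e) (mul_mem hz he) (by rw [Units.val_mul, hev, h1]) (by rw [Units.val_mul, hev, h2])
      rw [Units.val_mul, hev] at hc
      have h3 := congrArg (· * E) hc
      simp only [smul_mul_assoc, one_mul, mul_assoc] at h3
      have hE : E ∈ S := Submodule.subset_span ⟨k, hk⟩
      rcases hsq with h | h <;> rw [h] at h3
      · rw [mul_one] at h3; rw [h3]; exact S.smul_mem c hE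
      · rw [mul_neg_one, neg_eq_iff_eq_neg] at h3; rw [h3]; exact S.neg_mem (S.smul_mem c hE)
    rcases hP.sign z hz x hx.mem with hzx | hzx <;> rcases hP.sign z hz d hd.mem with hzd | hzd <;>
      rw [← hX] at hzx <;> rw [← hD] at hzd
    · refine hmem 1 1 0 R.one_mem Units.val_one (by simp) ?_ ?_ (Or.inl (mul_one 1)) <;> simp [hzx, hzd]
    · refine hmem x X 1 hx.mem hX.symm (by simp) ?_ ?_ (Or.inl hXX)
      · rw [mul_assoc, hXX, mul_one, ← mul_assoc, ← hzx, mul_assoc, hXX, mul_one]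
      · rw [mul_assoc, hxd, mul_neg, ← mul_assoc, hzd, neg_mul, neg_neg, mul_assoc]
    · refine hmem d D 2 hd.mem hD.symm (by simp) ?_ ?_ (Or.inl hDD)
      · rw [mul_assoc, hdx, mul_neg, ← mul_assoc, hzx, neg_mul, neg_neg, mul_assoc]
      · rw [mul_assoc, hDD, mul_one, ← mul_assoc, ← hzd, mul_assoc, hDD, mul_one]
    · refine hmem (x * d) (X * D) 3 (mul_mem hx.mem hd.mem) (by rw [Units.val_mul, hX, hD]) (by simp) ?_ ?_
        (Or.inr (by rw [mul_assoc, ← mul_assoc D X D, hdx, neg_mul, mul_neg, mul_assoc X D D, hDD, mul_one, hXX]))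
      · rw [mul_assoc (z : Matrix (Fin n) (Fin n) F), mul_assoc X D X, hdx, mul_neg, ← mul_assoc X X D, hXX,
          one_mul, mul_neg, ← mul_assoc, ← mul_assoc, show X * (z : Matrix (Fin n) (Fin n) F) = -((z : Matrix (Fin n) (Fin n) F) * X) by
            rw [hzx, neg_neg], neg_mul, neg_mul, mul_assoc (z : Matrix (Fin n) (Fin n) F) X X, hXX, mul_one]
      · rw [mul_assoc (z : Matrix (Fin n) (Fin n) F), mul_assoc X D D, hDD, mul_one, ← mul_assoc, ← mul_assoc,
          show D * (z : Matrix (Fin n) (Fin n) F) = -((z : Matrix (Fin n) (Fin n) F) * D) by rw [hzd, neg_neg],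
          neg_mul, neg_mul, mul_assoc (z : Matrix (Fin n) (Fin n) F) D X, hdx, mul_neg, neg_mul, neg_neg, mul_assoc,
          mul_assoc, hDD, mul_one]
  have h1 := finrank_range_le_card (R := F) (b := ![(1 : Matrix (Fin n) (Fin n) F), X, D, X * D])
  rw [Set.finrank, ← hS, htop, finrank_top, Module.finrank_matrix, Module.finrank_self, mul_one, Fintype.card_fin,
    Fintype.card_fin] at h1
  nlinarith

/-- equal up to a scalar -/
def Sim (x y : GL (Fin n) F) : Prop := ∃ c : F, (x : Matrix (Fin n) (Fin n) F) = c • (y : Matrix (Fin n) (Fin n) F)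

theorem Sim.refl (x : GL (Fin n) F) : Sim x x := ⟨1, (one_smul F _).symm⟩

theorem Sim.trans {x y z : GL (Fin n) F} : Sim x y → Sim y z → Sim x z := by
  rintro ⟨c, h⟩ ⟨d, h'⟩
  exact ⟨c * d, by rw [h, h', smul_smul]⟩

theorem Sim.conj {x y : GL (Fin n) F} (g : GL (Fin n) F) : Sim x y → Sim (g * x * g⁻¹) (g * y * g⁻¹) := by
  rintro ⟨c, h⟩
  exact ⟨c, by simp only [Units.val_mul, h, mul_smul_comm, smul_mul_assoc]⟩

theorem UPauli.sim_sign (hR : UPauli (q := q) R i) {x y : GL (Fin n) F} (hx : Invo R x) (hy : Invo R y)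
    (h : Sim x y) : (x : Matrix (Fin n) (Fin n) F) = y ∨ (x : Matrix (Fin n) (Fin n) F) = -(y : Matrix (Fin n) (Fin n) F) := by
  haveI := hR.nonempty
  obtain ⟨c, hc⟩ := h
  have h1 := hx.sq
  rw [hc, smul_mul_assoc, mul_smul_comm, smul_smul, hy.sq] at h1
  have h2 := congrFun (congrFun h1 (Classical.arbitrary _)) (Classical.arbitrary _)
  simp at h2
  rcases mul_self_eq_one_iff.1 h2 with e | e
  · exact Or.inl (by rw [hc, e, one_smul])
  · exact Or.inr (by rw [hc, e, neg_one_smul])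

theorem Invo.conj_invo {u g : GL (Fin n) F} (hu : Invo R u) (hg : g * u * g⁻¹ ∈ R) : Invo R (g * u * g⁻¹) := by
  refine ⟨hg, ?_, fun ⟨c, hc⟩ => hu.nsc ⟨c, ?_⟩⟩
  · rw [← Units.val_mul, show g * u * g⁻¹ * (g * u * g⁻¹) = g * (u * u) * g⁻¹ by group, hu.mul_self, mul_one,
      mul_inv_cancel, Units.val_one]
  · rw [show u = g⁻¹ * (g * u * g⁻¹) * g by group, Units.val_mul, Units.val_mul, hc, mul_smul_comm, mul_one,
      smul_mul_assoc, Units.inv_mul]

variable [Finite F]

/-- gates of an involution and of an anticommuting one: the involution goes to the product -/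
theorem UPauli.step (hR : UPauli (q := q) R i) {a b : GL (Fin n) F} (ha : Invo R a) (hb : Invo R b)
    (hab : (a : Matrix (Fin n) (Fin n) F) * b = -((b : Matrix (Fin n) (Fin n) F) * a)) :
    ∃ v, Invo R v ∧ ∀ hv : Invo R v, Sim (hv.G hR.pauli * a * (hv.G hR.pauli)⁻¹) b := by
  haveI := hR.nonempty
  have hns : ¬ IsScal (a * b) := by
    rintro ⟨c, hc⟩
    have h1 := congrArg (fun X => (a : Matrix (Fin n) (Fin n) F) * X) hc
    simp only [Units.val_mul, ← mul_assoc, ha.sq, one_mul, mul_smul_comm, mul_one] at h1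
    rw [h1, mul_smul_comm, smul_mul_assoc, ha.sq] at hab
    have h2 := congrFun (congrFun hab (Classical.arbitrary _)) (Classical.arbitrary _)
    simp at h2
    have hc0 : c = 0 := (mul_eq_zero.1 (show (2 : F) * c = 0 by linear_combination h2)).resolve_left hR.pauli.two
    exact b.ne_zero (by rw [h1, hc0, zero_smul])
  obtain ⟨v, c, hv, hc0, he⟩ := hR.pauli.exists_invo (mul_mem ha.mem hb.mem) hns
  have hav : (a : Matrix (Fin n) (Fin n) F) * v = -((v : Matrix (Fin n) (Fin n) F) * a) := by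
    refine smul_right_injective _ hc0 ?_
    show c • _ = c • _
    rw [← mul_smul_comm, smul_neg, ← smul_mul_assoc, ← he, Units.val_mul]
    conv_rhs => rw [hab, neg_mul, neg_neg, mul_assoc, ha.sq, mul_one]
    rw [← mul_assoc, ha.sq, one_mul]
  refine ⟨v, hv, fun hv' => ⟨i * c⁻¹, ?_⟩⟩
  rw [hv'.G_anti hR.pauli hav, show (v : Matrix (Fin n) (Fin n) F) = c⁻¹ • ((a * b : GL (Fin n) F) : Matrix (Fin n) (Fin n) F) by
    rw [he, smul_smul, inv_mul_cancel₀ hc0, one_smul], smul_mul_assoc, smul_smul, Units.val_mul, hab]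
  simp only [neg_mul, mul_assoc, ha.sq, mul_one, neg_smul, smul_neg, neg_neg]

/-- the group generated by the gates in pairs is transitive on the involutions -/
theorem UPauli.transitive (hR : UPauli (q := q) R i) (C : CfsgLib.SU.UCtx F q) {k : ℕ} (hk : n = 2 * (2 * k))
    {a b : GL (Fin n) F} (ha : Invo R a) (hb : Invo R b) :
    ∃ g, g ∈ Cfsg.GU n F q ∧ g ∈ Subgroup.normalizer (R : Set (GL (Fin n) F)) ∧
      (g : Matrix (Fin n) (Fin n) F).det = 1 ∧ Sim (g * a * g⁻¹) b := by
  haveI := hR.nonempty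
  have hP := hR.pauli
  have two : ∀ {x z y : GL (Fin n) F}, Invo R x → Invo R z → Invo R y →
      (x : Matrix (Fin n) (Fin n) F) * z = -((z : Matrix (Fin n) (Fin n) F) * x) →
      (z : Matrix (Fin n) (Fin n) F) * y = -((y : Matrix (Fin n) (Fin n) F) * z) →
      ∃ g, g ∈ Cfsg.GU n F q ∧ g ∈ Subgroup.normalizer (R : Set (GL (Fin n) F)) ∧
        (g : Matrix (Fin n) (Fin n) F).det = 1 ∧ Sim (g * x * g⁻¹) y := by
    intro x z y hx hz hy hxz hzy
    obtain ⟨v, hv, h1⟩ := hR.step hx hz hxz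
    obtain ⟨w, hw, h2⟩ := hR.step hz hy hzy
    refine ⟨hw.G hP * hv.G hP, mul_mem (hR.G_iso C hw) (hR.G_iso C hv),
      mul_mem (hw.G_mem_normalizer hP) (hv.G_mem_normalizer hP), ?_, ?_⟩
    · rw [Units.val_mul, det_mul, hR.G_det hw hk, hR.G_det hv hk, ← pow_add, show 2 * k + 2 * k = 4 * k by ring, pow_mul,
        show i ^ 4 = 1 by linear_combination (i * i - 1) * hP.ii, one_pow]
    · rw [show hw.G hP * hv.G hP * x * (hw.G hP * hv.G hP)⁻¹ =
        hw.G hP * (hv.G hP * x * (hv.G hP)⁻¹) * (hw.G hP)⁻¹ by group]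
      exact ((h1 hv).conj _).trans (h2 hw)
  by_cases hsim : Sim a b
  · exact ⟨1, one_mem _, one_mem _, by simp, by simpa using hsim⟩
  rcases hP.sign a ha.mem b hb.mem with hc | hc
  · have hne : ¬ IsScal (a * b) := by
      rintro ⟨c, hc'⟩
      refine hsim ⟨c, ?_⟩
      have h1 := congrArg (fun X => X * (b : Matrix (Fin n) (Fin n) F)) hc'
      simp only [Units.val_mul, mul_assoc, hb.sq, mul_one, smul_mul_assoc, one_mul] at h1
      exact h1
    have hne' : ¬ IsScal (b * a) := by rwa [show b * a = a * b from Units.ext (by rw [Units.val_mul, Units.val_mul, hc])]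
    obtain ⟨z1, hz1, h1a, h1b⟩ := hR.exists_sep ha.mem ha.nsc hb.mem hb.nsc hne
    obtain ⟨z2, hz2, h2b, h2a⟩ := hR.exists_sep hb.mem hb.nsc ha.mem ha.nsc hne'
    have hza : ((z1 * z2 : GL (Fin n) F) : Matrix (Fin n) (Fin n) F) * a =
        -((a : Matrix (Fin n) (Fin n) F) * (z1 * z2 : GL (Fin n) F)) := by
      rw [Units.val_mul, mul_assoc, h2a, mul_neg, ← mul_assoc, h1a, mul_assoc]
    have hzb : ((z1 * z2 : GL (Fin n) F) : Matrix (Fin n) (Fin n) F) * b =
        -((b : Matrix (Fin n) (Fin n) F) * (z1 * z2 : GL (Fin n) F)) := by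
      rw [Units.val_mul, mul_assoc, h2b, ← mul_assoc, h1b, neg_mul, mul_assoc]
    obtain ⟨z, c, hz, hc0, he⟩ := hP.exists_invo (mul_mem hz1 hz2) (fun ⟨c, hc'⟩ => ha.nsc (by
      exfalso
      rw [hc', smul_mul_assoc, one_mul, mul_smul_comm, mul_one] at hza
      have h1 : ((2 : F) * c) • (a : Matrix (Fin n) (Fin n) F) = 0 := by
        rw [two_mul, add_smul]; nth_rw 1 [hza]; rw [neg_add_cancel]
      rcases smul_eq_zero.1 h1 with h | h
      · exact (z1 * z2).ne_zero (by rw [hc', (mul_eq_zero.1 h).resolve_left hP.two, zero_smul])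
      · exact a.ne_zero h))
    rw [he, smul_mul_assoc, mul_smul_comm, ← smul_neg] at hza hzb
    have hza' := smul_right_injective _ hc0 hza
    exact two ha hz hb (by rw [hza', neg_neg]) (smul_right_injective _ hc0 hzb)
  · obtain ⟨v, hv, h1⟩ := hR.step ha hb hc
    refine ⟨hb.G hP * hv.G hP, mul_mem (hR.G_iso C hb) (hR.G_iso C hv),
      mul_mem (hb.G_mem_normalizer hP) (hv.G_mem_normalizer hP), ?_, ?_⟩
    · rw [Units.val_mul, det_mul, hR.G_det hb hk, hR.G_det hv hk, ← pow_add, show 2 * k + 2 * k = 4 * k by ring, pow_mul,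
        show i ^ 4 = 1 by linear_combination (i * i - 1) * hP.ii, one_pow]
    · rw [show hb.G hP * hv.G hP * a * (hb.G hP * hv.G hP)⁻¹ =
        hb.G hP * (hv.G hP * a * (hv.G hP)⁻¹) * (hb.G hP)⁻¹ by group]
      refine ((h1 hv).conj _).trans ?_
      rw [hb.G_comm hP rfl]
      exact Sim.refl b

end CfsgLib.Perm.Trans.PauliMax.UP
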