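import Cfsg.Agent.Lib.Perm.Trans.PauliMax.Unit.Sub
import Cfsg.Agent.Lib.Perm.Trans.UnitMax

/-!
# The special unitary group of an eigenspace, a swap and a gate generate everything
-/

set_option autoImplicit false
set_option linter.all false

namespace CfsgLib.Perm.Trans.PauliMax.UP

open scoped Matrix
open Matrix Cfsg.Geo CfsgLib.Perm.Asch CfsgLib.Perm.Trans CfsgLib.Perm.Trans.PauliMax

variable {F : Type*} [Field F] [Fintype F] {q : ℕ} {R : Subgroup (GL (Fin 8) F)} {i : F}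
  {C : CfsgLib.SU.UCtx F q}

local notation "M8" => Matrix (Fin 8) (Fin 8) F
local notation "M4" => Matrix (Fin 4) (Fin 4) F

/-- the special unitary group is transitive on the nonzero vectors of each norm -/
theorem four_move (C : CfsgLib.SU.UCtx F q) {x y : Fin 4 → F} (hx : x ≠ 0) (hy : y ≠ 0)
    (hxy : Cfsg.hermForm 4 F q x x = Cfsg.hermForm 4 F q y y) :
    ∃ k ∈ Cfsg.GU 4 F q ⊓ specialLinear (Fin 4) F, (k : M4) *ᵥ x = y := by
  have hf := Unit.isUnitary_hermForm C (n := 4)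
  have hdim : Module.finrank F (⊤ : Submodule F (Fin 4 → F)) = 4 := by rw [finrank_top, Module.finrank_fin_fun]
  by_cases h0 : Cfsg.hermForm 4 F q x x = 0
  · obtain ⟨t, ht, htx⟩ := Unit.move_iso_vec hf
      (M := Unit.isoU (Cfsg.hermForm 4 F q) ⊓ specialLinear (Fin 4) F) (W := ⊤)
      (fun u _ huu c hc => ⟨utv_orth hf huu c,
        ⟨Unit.mem_isoU.2 (utv_isometry hf u huu hc (utv_orth hf huu c)), tv_mem_SL _ _ _⟩⟩)
      (Unit.isNondegenerateOn_top hf) (by omega) Submodule.mem_top Submodule.mem_top hx hy h0 (hxy ▸ h0)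
    exact ⟨t, ht.1, htx⟩
  · obtain ⟨g, hg, -, hgx⟩ := Unit.exists_norm_move hf (W := ⊤) Submodule.mem_top Submodule.mem_top hxy h0
    obtain ⟨D, hD⟩ : ∃ D, D = (g : M4).det := ⟨_, rfl⟩
    have hn : D * C.bar D = 1 := by
      have h := congrArg Matrix.det ((mem_GU C).1 hg.1)
      rw [det_mul, det_one, adj, det_transpose, ← RingEquiv.mapMatrix_apply, ← RingEquiv.map_det] at h
      rw [hD, mul_comm]; exact h
    have hD0 : D ≠ 0 := fun h => by rw [h, zero_mul] at hn; exact zero_ne_one hn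
    have hyy : Cfsg.hermForm 4 F q y y ≠ 0 := hxy ▸ h0
    obtain ⟨hnd, hfr⟩ := Unit.sub_perp hf (Unit.isNondegenerateOn_top hf) (Unit.isNondegenerateOn_singleton hf hyy)
      le_top
    have h1 : Module.finrank F (Submodule.span F ({y} : Set (Fin 4 → F))) = 1 := finrank_span_singleton hy
    obtain ⟨p, hp, hpp⟩ := Unit.exists_anisotropic hf hnd (fun h => by rw [h, finrank_bot] at hfr; omega)
    obtain ⟨d, hd, hddet, hdf⟩ := Unit.exists_qref hf hpp (ζ := D⁻¹) (by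
      rw [map_inv₀, ← mul_inv, hn, inv_one])
    refine ⟨d * g, ⟨mul_mem hd hg.1, Units.ext ?_⟩, ?_⟩
    · rw [Matrix.GeneralLinearGroup.val_det_apply, Units.val_mul, det_mul, hddet, ← hD, inv_mul_cancel₀ hD0,
        Units.val_one]
    · rw [Units.val_mul, ← mulVec_mulVec, hgx, hdf,
        herm_swap_zero hf (hp.2 y (Submodule.mem_span_singleton_self y)), mul_zero, zero_smul, add_zero]

namespace Frame

variable (φ : Frame C R i)

theorem ext_J (a b : M4) : φ.ext a b * φ.J = φ.J * a := by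
  rw [ext, Matrix.add_mul, Matrix.mul_assoc (φ.J * a), φ.EJ, Matrix.mul_one,
    show φ.W * (φ.J * b * φ.E) * φ.W * φ.J = φ.W * φ.J * b * (φ.E * φ.W * φ.J) by simp only [Matrix.mul_assoc],
    φ.EWJ, Matrix.mul_zero, add_zero]

theorem ext_WJ (a b : M4) : φ.ext a b * (φ.W * φ.J) = φ.W * φ.J * b := by
  rw [ext, Matrix.add_mul,
    show φ.J * a * φ.E * (φ.W * φ.J) = φ.J * a * (φ.E * φ.W * φ.J) by simp only [Matrix.mul_assoc], φ.EWJ,
    Matrix.mul_zero, zero_add, Matrix.mul_assoc (φ.W * (φ.J * b * φ.E)) φ.W, ← Matrix.mul_assoc φ.W φ.W φ.J, φ.WW,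
    Matrix.one_mul, show φ.W * (φ.J * b * φ.E) * φ.J = φ.W * φ.J * b * (φ.E * φ.J) by simp only [Matrix.mul_assoc],
    φ.EJ, Matrix.mul_one]

/-- a vector by its coordinates -/
def emb (x y : Fin 4 → F) : Fin 8 → F := φ.J *ᵥ x + φ.W *ᵥ (φ.J *ᵥ y)

theorem ext_emb (a b : M4) (x y : Fin 4 → F) : φ.ext a b *ᵥ φ.emb x y = φ.emb (a *ᵥ x) (b *ᵥ y) := by
  simp only [emb, mulVec_add, mulVec_mulVec, φ.ext_J, φ.ext_WJ, Matrix.mul_assoc]

theorem emb_surj (z : Fin 8 → F) : φ.emb (φ.E *ᵥ z) (φ.E *ᵥ (φ.W *ᵥ z)) = z := by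
  conv_rhs => rw [← one_mulVec z, ← φ.ext_one]
  simp only [emb, ext, add_mulVec, mulVec_mulVec, Matrix.mul_one, Matrix.mul_assoc]

theorem emb_smul (c : F) (x y : Fin 4 → F) : c • φ.emb x y = φ.emb (c • x) (c • y) := by
  simp only [emb, mulVec_smul, smul_add]

theorem emb_add (x y x' y' : Fin 4 → F) : φ.emb x y + φ.emb x' y' = φ.emb (x + x') (y + y') := by
  simp only [emb, mulVec_add]; abel

theorem form_emb (x y x' y' : Fin 4 → F) :
    Cfsg.hermForm 8 F q (φ.emb x y) (φ.emb x' y') =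
      Cfsg.hermForm 4 F q x x' + Cfsg.hermForm 4 F q y y' := by
  have hf := Unit.isUnitary_hermForm C (n := 8)
  have hJ : ∀ a b, Cfsg.hermForm 8 F q (φ.J *ᵥ a) (φ.J *ᵥ b) = Cfsg.hermForm 4 F q a b := fun a b => by
    rw [herm_eq C, herm_eq C, form_mulVec, mulVec_mulVec, φ.EJ, one_mulVec]
  have h12 : ∀ a b, Cfsg.hermForm 8 F q (φ.J *ᵥ a) (φ.W *ᵥ (φ.J *ᵥ b)) = 0 := fun a b => by
    rw [herm_eq C, form_mulVec, mulVec_mulVec, mulVec_mulVec, show adj C φ.J = φ.E from rfl, φ.EWJ, zero_mulVec,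
      C.form_zero_right]
  have hW : ∀ a b, Cfsg.hermForm 8 F q (φ.W *ᵥ a) (φ.W *ᵥ b) = Cfsg.hermForm 8 F q a b := fun a b => by
    rw [herm_eq C, herm_eq C, form_mulVec, φ.adj_W, mulVec_mulVec, φ.WW, one_mulVec]
  simp only [emb, hf.add_left, herm_add_right hf, hJ, hW, h12, herm_swap_zero hf (h12 _ _), add_zero, zero_add]

/-- **Blocks, a swap and a gate generate.** -/
theorem full_of_block {M : Subgroup (GL (Fin 8) F)} (hMi : M ≤ Cfsg.GU 8 F q) (hw : φ.w ∈ M)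
    (hG : φ.hw.G φ.pauli.pauli ∈ M)
    (hblk : ∀ k ∈ Cfsg.GU 4 F q ⊓ specialLinear (Fin 4) F, φ.extG (k, 1) ∈ M) :
    Cfsg.GU 8 F q ⊓ specialLinear (Fin 8) F ≤ M := by
  have hf := Unit.isUnitary_hermForm C (n := 8)
  have hf4 := Unit.isUnitary_hermForm C (n := 4)
  have hW : ∀ x y, φ.W *ᵥ φ.emb x y = φ.emb y x := fun x y => by
    simp only [emb, mulVec_add, mulVec_mulVec, ← Matrix.mul_assoc, φ.WW, Matrix.one_mul]
    abel
  have hpair : ∀ k ∈ Cfsg.GU 4 F q ⊓ specialLinear (Fin 4) F, ∀ l ∈ Cfsg.GU 4 F q ⊓ specialLinear (Fin 4) F,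
      φ.extG (k, l) ∈ M := fun k hk l hl => by
    have h := M.mul_mem (hblk k hk) (M.mul_mem (M.mul_mem hw (hblk l hl)) hw)
    rwa [φ.w_extG, ← map_mul, Prod.mk_mul_mk, mul_one, one_mul] at h
  have hconj : ∀ {g : GL (Fin 8) F}, g ∈ M → ∀ {z}, z ∈ Unit.centres hf M → (g : M8) *ᵥ z ∈ Unit.centres hf M :=
    fun hg _ hz => Unit.centres_conj hf hMi hg hz
  have hfirst : ∀ x, Cfsg.hermForm 4 F q x x = 0 → φ.emb x 0 ∈ Unit.centres hf M := by
    intro x hxx
    have he : φ.emb x 0 = φ.J *ᵥ x := by simp [emb]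
    have hxx' : Cfsg.hermForm 8 F q (φ.emb x 0) (φ.emb x 0) = 0 := by
      rw [φ.form_emb, hxx, herm_zero_left hf4, add_zero]
    refine ⟨hxx', fun c hc => ⟨utv_orth hf hxx' c, ?_⟩⟩
    have h0 := utv_orth hf4 hxx c
    convert hblk (tv x (c • hv hf4 x) h0)
      ⟨Unit.mem_isoU.2 (utv_isometry hf4 x hxx hc h0), tv_mem_SL _ _ _⟩ using 1
    refine Units.ext ?_
    rw [extG_val, tv_coe, tv_coe, Units.val_one,
      show φ.ext (1 + vecMulVec x (c • hv hf4 x)) (1 : M4) = φ.ext 1 1 + φ.J * vecMulVec x (c • hv hf4 x) * φ.E by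
        simp only [ext, Matrix.mul_add, Matrix.add_mul]; abel,
      φ.ext_one, mul_vecMulVec, vecMulVec_mul, ← he]
    congr 2
    refine dot_ext hf fun z => ?_
    rw [← dotProduct_mulVec, smul_dotProduct, smul_dotProduct, hv_dot, hv_dot, he, herm_eq C, herm_eq C,
      form_mulVec, adj_adj]
  -- an element of the block with prescribed effect
  have hmove : ∀ x x', x ≠ 0 → x' ≠ 0 → Cfsg.hermForm 4 F q x x = Cfsg.hermForm 4 F q x' x' →
      ∀ y y', y ≠ 0 → y' ≠ 0 → Cfsg.hermForm 4 F q y y = Cfsg.hermForm 4 F q y' y' →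
      φ.emb x y ∈ Unit.centres hf M → φ.emb x' y' ∈ Unit.centres hf M := by
    intro x x' hx hx' hxx y y' hy hy' hyy hz
    obtain ⟨k, hk, hkx⟩ := four_move C hx hx' hxx
    obtain ⟨l, hl, hly⟩ := four_move C hy hy' hyy
    have h := hconj (hpair k hk l hl) hz
    rwa [extG_val, φ.ext_emb, hkx, hly] at h
  obtain ⟨e, -, he0, hee⟩ := exists_isotropic hf4 (W := ⊤) (by rw [finrank_top, Module.finrank_fin_fun]; norm_num)
  obtain ⟨y, hy⟩ := (hf4.nondegenerate e he0).2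
  obtain ⟨h, -, hhh, heh, -⟩ := exists_partner hf4 (X := ⊤) Submodule.mem_top hee (y := y) Submodule.mem_top hy
  have hhe : Cfsg.hermForm 4 F q h e = 1 := by rw [hf4.herm, heh, map_one]
  have hh0 : h ≠ 0 := fun h0 => by rw [h0, herm_zero_right hf4] at heh; exact zero_ne_one heh
  have h2 := φ.two
  have hi := φ.pauli.pauli.ii
  -- both isotropic
  have hiso : ∀ x y, x ≠ 0 → y ≠ 0 → Cfsg.hermForm 4 F q x x = 0 → Cfsg.hermForm 4 F q y y = 0 →
      φ.emb x y ∈ Unit.centres hf M := by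
    intro x y hx hy hxx hyy
    have h0 := hconj hG (hfirst e hee)
    have h1 : (φ.hw.G φ.pauli.pauli : M8) *ᵥ φ.emb e 0 = φ.emb (((1 + i) / 2) • e) (((1 - i) / 2) • e) := by
      rw [φ.hw.G_val, sp, add_mulVec, smul_mulVec, smul_mulVec, one_mulVec, show (φ.w : M8) = φ.W from rfl, hW,
        φ.emb_smul, φ.emb_smul, φ.emb_add]
      simp
    rw [h1] at h0
    have hne : ∀ {t : F}, t * t = -1 → ((1 + t) / 2) • e ≠ 0 := fun {t} ht => smul_ne_zero
      (div_ne_zero (fun h3 => h2 (by linear_combination ht - (t - 1) * h3)) h2) he0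
    refine hmove _ x (hne hi) hx ?_ _ y (sub_eq_add_neg (1 : F) i ▸ hne (by rw [neg_mul_neg, hi])) hy ?_ h0 <;>
      rw [hf4.smul_left, herm_smul_right hf4, hee] <;> simp [hxx, hyy]
  obtain ⟨β, hβ⟩ := exists_not_fixed hf4
  obtain ⟨δ, hδ, hδσ⟩ := exists_trace_zero hf4
  obtain ⟨γ, hγ⟩ : ∃ γ, γ = C.bar β := ⟨_, rfl⟩
  have hγ0 : γ ≠ 0 := fun h0 => hβ (by
    have hb : β = 0 := by rw [← C.bar_bar β, ← hγ, h0, map_zero]
    rw [hb, map_zero])
  have h1β : (1 + β : F) ≠ 0 := fun h0 => hβ (by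
    rw [show β = -1 by linear_combination h0, map_neg, map_one])
  obtain ⟨r, hr⟩ : ∃ r, r = δ * (1 + β) := ⟨_, rfl⟩
  obtain ⟨ν, hν⟩ : ∃ ν, ν = δ * (β - C.bar β) := ⟨_, rfl⟩
  have hν0 : ν ≠ 0 := hν ▸ mul_ne_zero hδ (sub_ne_zero.2 (Ne.symm hβ))
  have hc1 := hiso e e he0 he0 hee hee
  have hc2 := hiso h (γ • h) hh0 (smul_ne_zero hγ0 hh0) hhh (by rw [hf4.smul_left, herm_smul_right hf4, hhh]; simp)
  have hf12 : Cfsg.hermForm 8 F q (φ.emb e e) (φ.emb h (γ • h)) = 1 + β := by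
    rw [φ.form_emb, herm_smul_right hf4, heh, hγ, C.bar_bar, mul_one]
  have hnorm : ∀ s : F, Cfsg.hermForm 4 F q (e + s • h) (e + s • h) = C.bar s + s := fun s => by
    simp only [hf4.add_left, herm_add_right hf4, hf4.smul_left, herm_smul_right hf4, hee, hhh, heh, hhe]
    ring
  have hxν : Cfsg.hermForm 4 F q (e + r • h) (e + r • h) = ν := by
    rw [hnorm, hr, hν, map_mul, map_add, map_one, hδσ]; ring
  have hyν : Cfsg.hermForm 4 F q (e + (r * γ) • h) (e + (r * γ) • h) = -ν := by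
    rw [hnorm, hr, hν, hγ, map_mul, map_mul, map_add, map_one, hδσ, C.bar_bar]; ring
  have hc3 : φ.emb (e + r • h) (e + (r * γ) • h) ∈ Unit.centres hf M := by
    have hsum : φ.emb e e + r • φ.emb h (γ • h) = φ.emb (e + r • h) (e + (r * γ) • h) := by
      rw [φ.emb_smul, φ.emb_add, smul_smul]
    rw [← hsum]
    refine Unit.centres_line hf hMi hc1 hc2 (by rw [hf12]; exact h1β) ?_
    rw [hsum, φ.form_emb, hxν, hyν, add_neg_cancel]
  intro g hg
  refine Unit.isoU_inf_SL_le hf (fun z _ hzz c hc => ?_) (Or.inl (by simp)) hg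
  suffices z ∈ Unit.centres hf M from this.2 c hc
  obtain ⟨x, y, rfl⟩ : ∃ x y, z = φ.emb x y := ⟨_, _, (φ.emb_surj z).symm⟩
  rw [φ.form_emb] at hzz
  by_cases hxx : Cfsg.hermForm 4 F q x x = 0
  · rw [hxx, zero_add] at hzz
    by_cases hx : x = 0
    · subst hx
      rw [← hW y 0]
      exact hconj hw (hfirst y hzz)
    by_cases hy : y = 0
    · subst hy
      exact hfirst x hxx
    exact hiso x y hx hy hxx hzz
  · have hyy : Cfsg.hermForm 4 F q y y = -Cfsg.hermForm 4 F q x x := eq_neg_of_add_eq_zero_right hzz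
    obtain ⟨lam, hlam⟩ := exists_norm hf4 (d := Cfsg.hermForm 4 F q x x / ν) (by
      rw [← hxν, map_div₀, ← hf4.herm, ← hf4.herm])
    have hlam0 : lam ≠ 0 := fun h0 => by
      rw [h0, zero_mul, eq_comm, div_eq_zero_iff] at hlam
      exact hlam.elim hxx hν0
    have hne : ∀ {w : Fin 4 → F}, Cfsg.hermForm 4 F q w w ≠ 0 → w ≠ 0 := fun hw0 h0 =>
      hw0 (by rw [h0, herm_zero_left hf4])
    have hc4 := Unit.centres_smul hf hc3 lam
    rw [φ.emb_smul] at hc4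
    refine hmove _ x (smul_ne_zero hlam0 (hne (by rw [hxν]; exact hν0))) (hne hxx) ?_ _ y
      (smul_ne_zero hlam0 (hne (by rw [hyν]; exact neg_ne_zero.2 hν0)))
      (hne (by rw [hyy]; exact neg_ne_zero.2 hxx)) ?_ hc4
    · rw [hf4.smul_left, herm_smul_right hf4, hxν, ← mul_assoc, hlam, div_mul_cancel₀ _ hν0]
    · rw [hf4.smul_left, herm_smul_right hf4, hyν, ← mul_assoc, hlam, hyy, mul_neg, div_mul_cancel₀ _ hν0]

end Frame

end CfsgLib.Perm.Trans.PauliMax.UP
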