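import Cfsg.Agent.Lib.Perm.Trans.PauliMax.Unit.Res

/-!
# Centralisers of involutions of the group normalise it
-/

set_option autoImplicit false
set_option linter.all false

namespace CfsgLib.Perm.Trans.PauliMax.UP

open scoped Matrix
open Matrix Cfsg.Geo CfsgLib.Perm.Asch CfsgLib.Perm.Trans CfsgLib.Perm.Trans.PauliMax

variable {F : Type*} [Field F] {q : ℕ}

section General

variable {n : ℕ} {R : Subgroup (GL (Fin n) F)} {i : F}

local notation "Mn" => Matrix (Fin n) (Fin n) F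

/-- what acts as a scalar on an eigenspace -/
theorem UPauli.scal_of_eigen (hR : UPauli (q := q) R i) {r y : GL (Fin n) F} (hr : r ∈ R) (hy : Invo R y) {c : F}
    (h : (r : Mn) * (1 + (y : Mn)) = c • (1 + (y : Mn))) : IsScal r ∨ IsScal (r * y) := by
  by_contra hcon
  push Not at hcon
  have h3 := congrArg Matrix.trace h
  rw [mul_add, mul_one, trace_add, trace_smul, trace_add, trace_one, hR.trace_zero hr hcon.1, ← Units.val_mul,
    hR.trace_zero (mul_mem hr hy.mem) hcon.2, hR.trace_zero hy.mem hy.nsc, Fintype.card_fin, add_zero, add_zero,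
    smul_eq_mul] at h3
  have hc0 : c = 0 := (mul_eq_zero.1 h3.symm).resolve_right hR.nF
  rw [hc0, zero_smul, r.mul_right_eq_zero] at h
  exact hy.nsc ⟨-1, by rw [neg_one_smul]; exact eq_neg_of_add_eq_zero_right h⟩

theorem Invo.G_conj {u a : GL (Fin n) F} (hu : Invo R u) (hP : Pauli R i) (hv : Invo R (a * u * a⁻¹)) :
    a * hu.G hP * a⁻¹ = hv.G hP := Units.ext (by
  rw [Units.val_mul, Units.val_mul, hu.G_val, hv.G_val, sp, sp, mul_add, add_mul, mul_smul_comm, mul_smul_comm,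
    smul_mul_assoc, smul_mul_assoc, mul_one, Units.mul_inv, Units.val_mul, Units.val_mul])

end General

variable [Fintype F] {R : Subgroup (GL (Fin 8) F)} {i : F} {C : CfsgLib.SU.UCtx F q}

local notation "M8" => Matrix (Fin 8) (Fin 8) F
local notation "M4" => Matrix (Fin 4) (Fin 4) F

namespace Frame

variable (φ : Frame C R i)

theorem ext_smul (c : F) (a b : M4) : φ.ext (c • a) (c • b) = c • φ.ext a b := by
  simp only [ext, Matrix.mul_smul, Matrix.smul_mul, smul_add]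

theorem ext_add (a b a' b' : M4) : φ.ext (a + a') (b + b') = φ.ext a b + φ.ext a' b' := by
  simp only [ext, Matrix.mul_add, Matrix.add_mul]; abel

theorem invo_diag {y : GL (Fin 4) F} (hy : Invo φ.sub y) : Invo R (φ.extG (y, y)) := by
  refine ⟨(φ.diag_in hy.mem).1, by rw [extG_val, φ.ext_mul, hy.sq, φ.ext_one], fun ⟨c, hc⟩ => hy.nsc ⟨c, ?_⟩⟩
  rw [← φ.rp_ext (y : M4) y, ← extG_val, hc, rp, Matrix.mul_smul, Matrix.smul_mul, Matrix.mul_one, φ.EJ]

/-- two restrictions agree on an eigenspace up to a sign -/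
theorem agree {y : GL (Fin 4) F} {p r : M4} {t : GL (Fin 8) F} (ht : t ∈ R)
    (h : φ.ext p r * (1 + φ.ext (y : M4) y) = (t : M8) * (1 + φ.ext (y : M4) y)) :
    r * (1 + (y : M4)) = p * (1 + (y : M4)) ∨ r * (1 + (y : M4)) = -(p * (1 + (y : M4))) := by
  have hQ : 1 + φ.ext (y : M4) y = φ.ext (1 + y) (1 + y) := by rw [φ.ext_add, φ.ext_one]
  rw [hQ, φ.ext_mul] at h
  have h2 : φ.ext (r * (1 + (y : M4))) (p * (1 + y)) = φ.W * (t : M8) * φ.W * φ.ext (1 + y) (1 + y) := by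
    rw [← φ.W_ext_W, h]
    calc φ.W * ((t : M8) * φ.ext (1 + y) (1 + y)) * φ.W
        = φ.W * (t : M8) * (φ.W * φ.W) * φ.ext (1 + y) (1 + y) * φ.W := by rw [φ.WW, mul_one, ← mul_assoc]
      _ = φ.W * (t : M8) * φ.W * (φ.W * φ.ext (1 + y) (1 + y) * φ.W) := by simp only [mul_assoc]
      _ = _ := by rw [φ.W_ext_W]
  rcases φ.pauli.pauli.sign φ.w φ.hw.mem t ht with e | e
  · left
    rw [show φ.W * (t : M8) = (t : M8) * φ.W from e, mul_assoc (t : M8), φ.WW, mul_one, ← h] at h2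
    simpa only [φ.rp_ext] using congrArg φ.rp h2
  · right
    rw [show φ.W * (t : M8) = -((t : M8) * φ.W) from e, neg_mul, mul_assoc (t : M8), φ.WW, mul_one, neg_mul, ← h] at h2
    have h3 := congrArg φ.rp h2
    rwa [φ.rp_ext, show φ.rp (-φ.ext (p * (1 + (y : M4))) (r * (1 + y))) = -φ.rp (φ.ext (p * (1 + (y : M4))) (r * (1 + y)))
      by simp only [rp, Matrix.mul_neg, Matrix.neg_mul], φ.rp_ext] at h3

variable {M : Subgroup (GL (Fin 8) F)}
  (hN : Subgroup.normalizer (R : Set (GL (Fin 8) F)) ⊓ (Cfsg.GU 8 F q ⊓ specialLinear (Fin 8) F) ≤ M)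
  (hF : Fintype.card F = q ^ 2) (hq : q.Prime) (hq4 : q % 4 = 3)
  (hM : M ≤ Cfsg.GU 8 F q ⊓ specialLinear (Fin 8) F) (hne : M ≠ Cfsg.GU 8 F q ⊓ specialLinear (Fin 8) F)
include hN hF hq hq4 hM hne

/-- the centraliser permutes the elements on the eigenspace -/
theorem eigen {h t : GL (Fin 8) F} (hh : h ∈ M) (hc : h * φ.u = φ.u * h) (ht : t ∈ R) (htc : t * φ.u = φ.u * t) :
    ∃ t' ∈ R, ((h * t * h⁻¹ : GL (Fin 8) F) : M8) * (1 + φ.U) = (t' : M8) * (1 + φ.U) := by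
  have ha : φ.rpG h hc ∈ Subgroup.normalizer (φ.sub : Set (GL (Fin 4) F)) :=
    φ.res_le hN hF hq hq4 hM hne ⟨h, hc, hh, rfl⟩
  obtain ⟨t', hc', ht', e⟩ := φ.sub_conj ha (φ.mem_sub ht htc)
  have hhc : Commute h φ.u := hc
  have h1 : h * t * φ.u = φ.u * (h * t) := (hhc.mul_left htc).eq
  have hX : h * t * h⁻¹ * φ.u = φ.u * (h * t * h⁻¹) :=
    ((show Commute (h * t) φ.u from h1).mul_left hhc.inv_left).eq
  have e' : φ.rp ((h * t * h⁻¹ : GL (Fin 8) F) : M8) = φ.rp (t' : M8) := by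
    rw [← φ.rpG_val _ hX, ← φ.rpG_val t' hc', e, φ.rpG_mul h1 (φ.comm_inv hc), φ.rpG_mul hc htc h1]
    rfl
  refine ⟨t', ht', ?_⟩
  have key : ∀ {X : M8}, X * φ.U = φ.U * X → φ.J * φ.rp X * φ.E = X * φ.P := fun {X} hX => by
    rw [φ.JrpE, ← φ.comm_P hX, mul_assoc, φ.PP]
  have h2 : ((h * t * h⁻¹ : GL (Fin 8) F) : M8) * φ.P = (t' : M8) * φ.P := by
    rw [← key (φ.comm_mat hX), ← key (φ.comm_mat hc'), e']
  have h3 : 1 + φ.U = (2 : F) • φ.P := by
    simp only [P, sp]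
    match_scalars <;> field_simp [φ.two] <;> ring
  rw [h3, mul_smul_comm, mul_smul_comm, h2]

theorem eigen_at {y : GL (Fin 4) F} (hy : Invo φ.sub y) {h t : GL (Fin 8) F} (hh : h ∈ M)
    (hc : h * φ.extG (y, y) = φ.extG (y, y) * h) (ht : t ∈ R) (htc : t * φ.extG (y, y) = φ.extG (y, y) * t) :
    ∃ t' ∈ R, ((h * t * h⁻¹ : GL (Fin 8) F) : M8) * (1 + φ.ext (y : M4) y) = (t' : M8) * (1 + φ.ext (y : M4) y) := by
  obtain ⟨ψ, hψ⟩ := exists_frame (C := C) φ.pauli (φ.invo_diag hy)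
  obtain ⟨t', ht', h1⟩ := ψ.eigen hN hF hq hq4 hM hne hh (by rw [hψ]; exact hc) ht (by rw [hψ]; exact htc)
  rw [show ψ.U = φ.ext (y : M4) y by rw [← extG_val, ← hψ]] at h1
  exact ⟨t', ht', h1⟩

/-- gates on the negated space alone are trivial -/
theorem disagree {d e : GL (Fin 4) F} (hd : Invo φ.sub d) (he : Invo φ.sub e)
    (hmem : φ.extG (1, he.G φ.sub_pauli.pauli * (hd.G φ.sub_pauli.pauli)⁻¹) ∈ M) : Sim e d := by
  have hs := φ.sub_pauli
  have hP := hs.pauli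
  haveI := hs.nonempty
  obtain ⟨c, hc⟩ : ∃ c, c = he.G hP * (hd.G hP)⁻¹ := ⟨_, rfl⟩
  rw [← hc] at hmem
  by_contra hsim
  have core : ∀ {y z : GL (Fin 4) F}, Invo φ.sub y → z ∈ φ.sub → y * d = d * y → y * e = e * y → z * d = d * z →
      z * e = -(e * z) → z * y = y * z → IsScal (e * y) := by
    intro y z hy hz hyd hye hzd hze hzy
    have hcy : c * y = y * c := by
      have h1 : he.G hP * y * (he.G hP)⁻¹ = y := he.G_comm hP (by rw [← Units.val_mul, hye, Units.val_mul])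
      have h2 : hd.G hP * y * (hd.G hP)⁻¹ = y := hd.G_comm hP (by rw [← Units.val_mul, hyd, Units.val_mul])
      refine mul_inv_eq_iff_eq_mul.1 ?_
      rw [hc, show he.G hP * (hd.G hP)⁻¹ * y * (he.G hP * (hd.G hP)⁻¹)⁻¹ =
        he.G hP * ((hd.G hP)⁻¹ * y * hd.G hP) * (he.G hP)⁻¹ by group,
        show (hd.G hP)⁻¹ * y * hd.G hP = y by rw [mul_assoc, ← mul_inv_eq_iff_eq_mul.1 h2, inv_mul_cancel_left]]
      exact h1
    have hcz : ((c * z * c⁻¹ : GL (Fin 4) F) : M4) = (-i) • ((e : M4) * z) := by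
      have h2 : hd.G hP * z * (hd.G hP)⁻¹ = z := hd.G_comm hP (by rw [← Units.val_mul, hzd, Units.val_mul])
      rw [hc, show he.G hP * (hd.G hP)⁻¹ * z * (he.G hP * (hd.G hP)⁻¹)⁻¹ =
        he.G hP * ((hd.G hP)⁻¹ * z * hd.G hP) * (he.G hP)⁻¹ by group,
        show (hd.G hP)⁻¹ * z * hd.G hP = z by rw [mul_assoc, ← mul_inv_eq_iff_eq_mul.1 h2, inv_mul_cancel_left]]
      exact he.G_anti hP (by rw [← Units.val_mul, hze, Units.val_neg, Units.val_mul])
    have hcmem : c * z * c⁻¹ ∈ φ.sub := φ.sub_conj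
      (hc ▸ mul_mem (he.G_mem_normalizer hP) (inv_mem (hd.G_mem_normalizer hP))) hz
    have hhc : φ.extG (1, c) * φ.extG (y, y) = φ.extG (y, y) * φ.extG (1, c) := by
      rw [← map_mul, ← map_mul, Prod.mk_mul_mk, Prod.mk_mul_mk, one_mul, mul_one, hcy]
    have htc : φ.extG (z, z) * φ.extG (y, y) = φ.extG (y, y) * φ.extG (z, z) := by
      rw [← map_mul, ← map_mul, Prod.mk_mul_mk, Prod.mk_mul_mk, hzy]
    obtain ⟨t', ht', h1⟩ := φ.eigen_at hN hF hq hq4 hM hne hy hmem hhc (φ.diag_in hz).1 htc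
    rw [← map_inv, ← map_mul, ← map_mul, Prod.inv_mk, Prod.mk_mul_mk, Prod.mk_mul_mk, one_mul, inv_one, mul_one,
      extG_val] at h1
    obtain ⟨ε, h2⟩ : ∃ ε : F, ((c * z * c⁻¹ : GL (Fin 4) F) : M4) * (1 + (y : M4)) = ε • ((z : M4) * (1 + (y : M4))) := by
      rcases φ.agree ht' h1 with e' | e'
      · exact ⟨1, by rw [one_smul, e']⟩
      · exact ⟨-1, by rw [neg_one_smul, e']⟩
    have hr : ((z⁻¹ * (c * z * c⁻¹) : GL (Fin 4) F) : M4) = i • (e : M4) := by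
      rw [Units.val_mul, hcz, show (e : M4) * z = -((z : M4) * e) by
        rw [← Units.val_mul, ← Units.val_mul, hze, Units.val_neg, neg_neg], smul_neg, ← neg_smul, neg_neg,
        mul_smul_comm, ← mul_assoc, Units.inv_mul, one_mul]
    rcases hs.scal_of_eigen (mul_mem (inv_mem hz) hcmem) hy (c := ε) (by
        rw [Units.val_mul, mul_assoc, h2, mul_smul_comm, ← mul_assoc, Units.inv_mul, one_mul]) with ⟨μ, hμ⟩ | ⟨μ, hμ⟩
    · exact absurd ⟨i⁻¹ * μ, by rw [← smul_smul, ← hμ, hr, smul_smul, inv_mul_cancel₀ hP.i_ne_zero, one_smul]⟩ he.nsc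
    · refine ⟨i⁻¹ * μ, ?_⟩
      rw [← smul_smul, ← hμ, Units.val_mul (z⁻¹ * (c * z * c⁻¹)) y, hr, smul_mul_assoc, smul_smul, inv_mul_cancel₀ hP.i_ne_zero,
        one_smul, Units.val_mul]
  rcases φ.sub_sign hd.mem he.mem with hde | hde
  · have hns : ¬ IsScal (d * e) := by
      rintro ⟨μ, hμ⟩
      refine hsim ⟨μ, ?_⟩
      have h1 := congrArg (fun X => (d : M4) * X) hμ
      simpa only [Units.val_mul, ← mul_assoc, hd.sq, one_mul, mul_smul_comm, mul_one] using h1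
    obtain ⟨z, hz, h1, h2⟩ := hs.exists_sep hd.mem hd.nsc he.mem he.nsc hns
    exact hns (hde ▸ core hd hz rfl hde (Units.ext h1) (Units.ext h2) (Units.ext h1))
  · have hde' : (d : M4) * e = -((e : M4) * d) := by rw [← Units.val_mul, hde, Units.val_neg, Units.val_mul]
    obtain ⟨y, hy, h1, h2⟩ := hs.exists_perp (by norm_num) hd he hde'
    have hyd : y * d = d * y := Units.ext h1
    obtain ⟨μ, hμ⟩ := core hy hd.mem hyd (Units.ext h2) rfl hde hyd.symm
    have hye : (y : M4) = μ • (e : M4) := by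
      have h3 := congrArg (fun X => (e : M4) * X) hμ
      simpa only [Units.val_mul, ← mul_assoc, he.sq, one_mul, mul_smul_comm, mul_one] using h3
    rw [hye, smul_mul_assoc, mul_smul_comm, hde', smul_neg] at h1
    have h4 : ((2 : F) * μ) • ((e : M4) * d) = 0 := by
      rw [two_mul, add_smul]
      nth_rw 1 [h1]
      rw [neg_add_cancel]
    rcases smul_eq_zero.1 h4 with h5 | h5
    · exact y.ne_zero (by rw [hye, (mul_eq_zero.1 h5).resolve_left hP.two, zero_smul])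
    · exact (e * d).ne_zero (by rw [Units.val_mul, h5])

/-- **Centralisers of the involution normalise the group.** -/
theorem cen_mem_frame {h : GL (Fin 8) F} (hh : h ∈ M) (hc : h * φ.u = φ.u * h) :
    h ∈ Subgroup.normalizer (R : Set (GL (Fin 8) F)) := by
  have hs := φ.sub_pauli
  have hP := hs.pauli
  haveI := hs.nonempty
  have hw := φ.w_mem hN
  obtain ⟨a, ha⟩ : ∃ a, a = φ.rpG h hc := ⟨_, rfl⟩
  obtain ⟨b, hb⟩ : ∃ b, b = φ.rpG (φ.w * h * φ.w) (φ.comm_w hc) := ⟨_, rfl⟩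
  have hab : φ.extG (a, b) = h := by rw [ha, hb]; exact φ.extG_rpG hc
  have hmw : φ.w * h * φ.w ∈ M := mul_mem (mul_mem hw hh) hw
  have haN : a ∈ Subgroup.normalizer (φ.sub : Set (GL (Fin 4) F)) :=
    φ.res_le hN hF hq hq4 hM hne ⟨h, hc, hh, ha.symm⟩
  have hbN : b ∈ Subgroup.normalizer (φ.sub : Set (GL (Fin 4) F)) :=
    φ.res_le hN hF hq hq4 hM hne ⟨_, φ.comm_w hc, hmw, hb.symm⟩
  have hdiag : ∀ {x} (hx : Invo φ.sub x), φ.extG (hx.G hP, hx.G hP) ∈ M := fun {x} hx =>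
    φ.diag_mem_M hN (hx.G_mem_normalizer hP) (hs.G_iso C hx) (by
      rw [hs.G_det hx (k := 2) (by norm_num), ← pow_add, show (2 + 2 : ℕ) = 4 from rfl]
      linear_combination (i * i - 1) * hP.ii)
  -- `a` and `b` permute the classes alike
  have hfix : ∀ x, Invo φ.sub x → Sim (b * x * b⁻¹) (a * x * a⁻¹) := fun x hx => by
    have hxa := Invo.conj_invo hx (φ.sub_conj haN hx.mem)
    have hxb := Invo.conj_invo hx (φ.sub_conj hbN hx.mem)
    refine φ.disagree hN hF hq hq4 hM hne hxa hxb ?_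
    have h1 := mul_mem (mul_mem (mul_mem hh (hdiag hx)) (inv_mem hh)) (inv_mem (hdiag hxa))
    rwa [← hab, ← map_inv, ← map_inv, ← map_mul, ← map_mul, ← map_mul, Prod.inv_mk, Prod.inv_mk, Prod.mk_mul_mk,
      Prod.mk_mul_mk, Prod.mk_mul_mk, Invo.G_conj hx hP hxa, Invo.G_conj hx hP hxb, mul_inv_cancel] at h1
  obtain ⟨c, hcd⟩ : ∃ c, c = a⁻¹ * b := ⟨_, rfl⟩
  obtain ⟨s, hs', hcs⟩ : ∃ s ∈ φ.sub, IsScal (c * s⁻¹) := by
    obtain ⟨s, hs', μ, hμ⟩ := hs.mem_of_fix c fun x hx => hs.fix_of_scalar hx (by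
      by_cases hxs : IsScal x
      · exact ⟨1, by rw [← hxs.comm c, mul_inv_cancel_right, mul_inv_cancel, Units.val_one, one_smul]⟩
      obtain ⟨v, l, hv, hl0, he⟩ := hP.exists_invo hx hxs
      have h1 : Sim (a⁻¹ * (b * v * b⁻¹) * a⁻¹⁻¹) (a⁻¹ * (a * v * a⁻¹) * a⁻¹⁻¹) := (hfix v hv).conj a⁻¹
      rw [show a⁻¹ * (b * v * b⁻¹) * a⁻¹⁻¹ = c * v * c⁻¹ by rw [hcd]; group,
        show a⁻¹ * (a * v * a⁻¹) * a⁻¹⁻¹ = v by group] at h1
      obtain ⟨μ, hμ⟩ := h1
      refine ⟨μ, ?_⟩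
      have h2 : ((c * x * c⁻¹ : GL (Fin 4) F) : M4) = μ • (x : M4) := by
        rw [Units.val_mul, Units.val_mul, he, mul_smul_comm, smul_mul_assoc, ← Units.val_mul, ← Units.val_mul, hμ,
          smul_comm]
      rw [Units.val_mul, h2, smul_mul_assoc, Units.mul_inv])
    exact ⟨s, hs', μ, by rw [Units.val_mul, hμ, smul_mul_assoc, Units.mul_inv]⟩
  obtain ⟨L, hL⟩ : ∃ L, L = c * s⁻¹ := ⟨_, rfl⟩
  have hLs : IsScal L := hL ▸ hcs
  have h1M : φ.extG (a, a * L) ∈ M := by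
    have h1 := mul_mem hh (φ.one_sub_M hN (inv_mem hs'))
    rwa [← hab, ← map_mul, Prod.mk_mul_mk, mul_one,
      show b * s⁻¹ = a * L by rw [hL, hcd]; group] at h1
  -- adjust `a`
  obtain ⟨y, hy⟩ : ∃ y, Invo φ.sub y := by
    obtain ⟨x, hx, hxs⟩ : ∃ x ∈ φ.sub, ¬ IsScal x := by
      by_contra hcon
      push Not at hcon
      have h2 : Nat.card (Subgroup.center φ.sub) = Nat.card φ.sub := by
        rw [show Subgroup.center φ.sub = ⊤ from eq_top_iff.2 fun x _ => (hs.center_mem x).2 (hcon x x.2),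
          Subgroup.card_top]
      rw [hs.card_center, hs.card] at h2
      norm_num at h2
    obtain ⟨v, c', hv, -, -⟩ := hP.exists_invo hx hxs
    exact ⟨v, hv⟩
  obtain ⟨g, hgy, hgM⟩ : ∃ g, g * a * y * (g * a)⁻¹ = y ∧ φ.extG (g, g) ∈ M := by
    have hv := Invo.conj_invo hy (φ.sub_conj haN hy.mem)
    obtain ⟨g, hgU, hgN, hgd, hgs⟩ := hs.transitive C (k := 1) (by norm_num) hv hy
    have hgv := Invo.conj_invo hv (φ.sub_conj hgN hv.mem)
    have hgM := φ.diag_mem_M hN hgN hgU (by rw [hgd, one_mul])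
    rcases hs.sim_sign hgv hy hgs with e | e
    · exact ⟨g, by rw [show g * a * y * (g * a)⁻¹ = g * (a * y * a⁻¹) * g⁻¹ by group, Units.ext e], hgM⟩
    · obtain ⟨r, hr, hyr⟩ := hy.exists_anti hP
      refine ⟨r * g, ?_, ?_⟩
      · rw [show r * g * a * y * (r * g * a)⁻¹ = r * (g * (a * y * a⁻¹) * g⁻¹) * r⁻¹ by group,
          show g * (a * y * a⁻¹) * g⁻¹ = -y from Units.ext e, mul_neg, mul_inv_eq_iff_eq_mul]
        exact Units.ext (by rw [Units.val_neg, Units.val_mul, Units.val_mul, hyr])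
      · rw [show (r * g, r * g) = (r, r) * (g, g) from rfl, map_mul]
        exact mul_mem (hN (φ.pauli.le_normalizer (k := 2) (by norm_num) (φ.diag_in hr.mem).1)) hgM
  obtain ⟨A, hA⟩ : ∃ A, A = g * a := ⟨_, rfl⟩
  have hAy : A * y = y * A := mul_inv_eq_iff_eq_mul.1 (hA ▸ hgy)
  have h2M : φ.extG (A, A * L) ∈ M := by
    have h2 := mul_mem hgM h1M
    rwa [← map_mul, Prod.mk_mul_mk, ← mul_assoc, ← hA] at h2
  have hL4 : L ∈ φ.sub := by
    have hconj : φ.extG (A, A * L) * φ.w * (φ.extG (A, A * L))⁻¹ = φ.extG (L⁻¹, L) * φ.w := by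
      rw [← map_inv, Prod.inv_mk, mul_assoc, φ.w_swap, ← mul_assoc, ← map_mul, Prod.mk_mul_mk]
      congr 3
      · rw [_root_.mul_inv_rev, ← mul_assoc, mul_inv_eq_iff_eq_mul,
          (show Commute A L⁻¹ from ((show Commute L A from hLs.comm A).inv_left).symm).eq]
      · rw [mul_assoc, hLs.comm A⁻¹, ← mul_assoc, mul_inv_cancel, one_mul]
    have hcomm : φ.extG (A, A * L) * φ.extG (y, y) = φ.extG (y, y) * φ.extG (A, A * L) := by
      rw [← map_mul, ← map_mul, Prod.mk_mul_mk, Prod.mk_mul_mk, hAy, mul_assoc A, hLs.comm y, ← mul_assoc, hAy,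
        mul_assoc]
    obtain ⟨t', ht', h3⟩ := φ.eigen_at hN hF hq hq4 hM hne hy h2M hcomm φ.hw.mem (φ.w_swap y y)
    have hWQ : φ.W * (1 + φ.ext (y : M4) y) = (1 + φ.ext (y : M4) y) * φ.W := by
      have h4 := congrArg Units.val (φ.w_swap y y)
      rw [Units.val_mul, Units.val_mul, extG_val] at h4
      rw [mul_add, add_mul, mul_one, one_mul, h4]
    rw [hconj, Units.val_mul, mul_assoc, hWQ, ← mul_assoc] at h3
    have h4 : φ.ext ((L⁻¹ : GL (Fin 4) F) : M4) (L : M4) * (1 + φ.ext (y : M4) y) =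
        ((t' * φ.w : GL (Fin 8) F) : M8) * (1 + φ.ext (y : M4) y) := by
      have h5 := congrArg (· * φ.W) h3
      simp only [mul_assoc, φ.WW, mul_one] at h5
      rw [Units.val_mul, mul_assoc, hWQ]
      exact h5
    obtain ⟨μ, hμ⟩ := hLs
    obtain ⟨ε, hε, h5⟩ : ∃ ε : F, ε * ε = 1 ∧
        (L : M4) * (1 + (y : M4)) = ε • (((L⁻¹ : GL (Fin 4) F) : M4) * (1 + (y : M4))) := by
      rcases φ.agree (mul_mem ht' φ.hw.mem) h4 with e' | e'
      · exact ⟨1, one_mul 1, by rw [one_smul, e']⟩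
      · exact ⟨-1, by norm_num, by rw [neg_one_smul, e']⟩
    have h6 := congrArg (fun X => (L : M4) * X) h5
    simp only [mul_smul_comm, ← mul_assoc, Units.mul_inv, one_mul] at h6
    simp only [hμ, smul_mul_assoc, mul_smul_comm, one_mul, smul_smul] at h6
    have h7 : ((μ * μ - ε) : F) • (1 + (y : M4)) = 0 := by rw [sub_smul, h6, sub_self]
    have h8 : μ * μ = ε := sub_eq_zero.1 ((smul_eq_zero.1 h7).resolve_right fun h0 =>
      hy.nsc ⟨-1, by rw [neg_one_smul]; exact eq_neg_of_add_eq_zero_right h0⟩)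
    exact hs.scal_mem hμ (by linear_combination (μ * μ + ε) * h8 + hε)
  have hc' : c ∈ φ.sub := by
    have h9 := mul_mem hL4 hs'
    rwa [hL, inv_mul_cancel_right] at h9
  rw [← hab, show (a, b) = (a, a) * (1, c) by rw [Prod.mk_mul_mk, mul_one, hcd, mul_inv_cancel_left], map_mul]
  exact Subgroup.mul_mem _ (φ.diag_mem haN) (φ.one_sub_mem hc')

end Frame

/-- **Involution centralisers in an overgroup normalise the group.** -/
theorem cen_mem (hF : Fintype.card F = q ^ 2) (hq : q.Prime) (hq4 : q % 4 = 3) (hR : UPauli (q := q) R i)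
    {M : Subgroup (GL (Fin 8) F)}
    (hN : Subgroup.normalizer (R : Set (GL (Fin 8) F)) ⊓ (Cfsg.GU 8 F q ⊓ specialLinear (Fin 8) F) ≤ M)
    (hM : M ≤ Cfsg.GU 8 F q ⊓ specialLinear (Fin 8) F) (hne : M ≠ Cfsg.GU 8 F q ⊓ specialLinear (Fin 8) F)
    {u : GL (Fin 8) F} (hu : Invo R u) {h : GL (Fin 8) F} (hh : h ∈ M) (hc : h * u = u * h) :
    h ∈ Subgroup.normalizer (R : Set (GL (Fin 8) F)) := by
  obtain ⟨C⟩ := Unit.ctx_of_card hF
  obtain ⟨φ, rfl⟩ := exists_frame (C := C) hR hu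
  exact φ.cen_mem_frame hN hF hq hq4 hM hne hh hc

end CfsgLib.Perm.Trans.PauliMax.UP
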