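import Cfsg.Agent.Lib.Perm.Trans.PauliMax.Unit.Base
import Cfsg.Agent.Lib.Perm.Elusive.STFour.Basics

/-!
# Unitary groups of Pauli matrices in dimension eight from the class data
-/

set_option autoImplicit false
set_option linter.all false

namespace CfsgLib.Perm.Trans.PauliMax.UP

open scoped Matrix
open Matrix Cfsg.Geo CfsgLib.Perm.Asch CfsgLib.Perm.Trans.PauliMax

variable {F : Type*} [Field F] [Fintype F] {q : ℕ}

/-- the hypotheses of the class give a group of Pauli matrices of isometries -/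
theorem upauli_of_data (hF : Fintype.card F = q ^ 2) (hq : q.Prime) (hq4 : q % 4 = 3) {R : Subgroup (GL (Fin 8) F)}
    (hsymp : IsSymplecticTypeGroup 2 R) (habs : ActsAbsolutelyIrreducibly (matrixSet R)) (hiso : R ≤ Cfsg.GU 8 F q)
    (hcardR : Nat.card R = 256) (hz : Nat.card (Subgroup.center R) = 4) : ∃ i : F, UPauli (q := q) R i := by
  classical
  haveI : Fact q.Prime := ⟨hq⟩
  haveI : CharP F q := charP_of_card_eq_prime_pow (f := 2) (by simpa [Nat.card_eq_fintype_card] using hF)
  haveI : Finite (Matrix (Fin 8) (Fin 8) F) := inferInstanceAs (Finite (Fin 8 → Fin 8 → F))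
  haveI : Finite (GL (Fin 8) F) := Finite.of_injective _ Units.val_injective
  haveI : Fintype R := Fintype.ofFinite _
  have h2 : (2 : F) ≠ 0 := fun h => by
    have := Nat.le_of_dvd two_pos ((CharP.cast_eq_zero_iff F q 2).1 (by exact_mod_cast h))
    have := hq.two_le
    omega
  have hS : CfsgLib.Perm.Elusive.STFour.Setting R := ⟨inferInstance, h2, hsymp, habs⟩
  -- the scalars of order dividing four
  have hex : ∀ z : Subgroup.center R, ∃ c : Fˣ, sch (Fin 8) F c = ((z : R) : GL (Fin 8) F) := by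
    intro z
    obtain ⟨c, hc⟩ := (hS.scalar_iff (z : R).2).2 z.2
    have hc0 : c ≠ 0 := fun h => ((z : R) : GL (Fin 8) F).ne_zero (by rw [hc, h, zero_smul])
    exact ⟨Units.mk0 c hc0, Units.ext (by rw [sch_coe, hc]; rfl)⟩
  choose χ hχ using hex
  have hχinj : Function.Injective χ := fun a b h => Subtype.ext (Subtype.ext (by rw [← hχ a, ← hχ b, h]))
  have hχ4 : ∀ z, χ z ^ 4 = 1 := fun z => sch_injective (ι := Fin 8) (by
    rw [map_pow, hχ, map_one, hS.pow_four (z : R).2])
  haveI : DecidableEq Fˣ := Classical.decEq _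
  let T : Finset Fˣ := Finset.univ.filter fun c : Fˣ => c ^ 4 = 1
  have hT4 : T.card ≤ 4 := IsCyclic.card_pow_eq_one_le (by norm_num)
  haveI : Fintype (Subgroup.center R) := Fintype.ofFinite _
  have hsub : Finset.univ.image χ ⊆ T := by
    intro c hc
    obtain ⟨z, -, rfl⟩ := Finset.mem_image.1 hc
    simp [T, hχ4 z]
  have himg : (Finset.univ.image χ).card = 4 := by
    rw [Finset.card_image_of_injective _ hχinj, Finset.card_univ, ← Nat.card_eq_fintype_card, hz]
  have heq := Finset.eq_of_subset_of_card_le hsub (by omega)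
  have hscal : ∀ c : Fˣ, c ^ 4 = 1 → sch (Fin 8) F c ∈ R := by
    intro c hc
    have : c ∈ Finset.univ.image χ := by rw [heq]; simp [T, hc]
    obtain ⟨z, -, rfl⟩ := Finset.mem_image.1 this
    rw [hχ]
    exact (z : R).2
  obtain ⟨c, hc4, hc2⟩ : ∃ c : Fˣ, c ^ 4 = 1 ∧ c ^ 2 ≠ 1 := by
    by_contra hcon
    push Not at hcon
    have hle : T.card ≤ 2 := le_trans (Finset.card_le_card fun c hc => by
      simp only [T, Finset.mem_filter] at hc ⊢
      exact ⟨hc.1, hcon c hc.2⟩) (IsCyclic.card_pow_eq_one_le (α := Fˣ) two_pos)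
    rw [← heq, himg] at hle
    omega
  have hii : (c : F) * c = -1 := by
    have h4 : ((c : F) * c) * ((c : F) * c) = 1 := by
      rw [← Units.val_mul, ← Units.val_mul, show c * c * (c * c) = c ^ 4 by simp [pow_succ, mul_assoc], hc4, Units.val_one]
    rcases mul_self_eq_one_iff.1 h4 with h | h
    · exact absurd (Units.ext (by rw [Units.val_pow_eq_pow_val, pow_two, h, Units.val_one])) hc2
    · exact h
  have hcard0 : (Fintype.card R : F) ≠ 0 := by
    rw [← Nat.card_eq_fintype_card, hcardR, show (256 : ℕ) = 2 ^ 8 by norm_num, Nat.cast_pow]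
    exact pow_ne_zero _ (by exact_mod_cast h2)
  let av : Matrix (Fin 8) (Fin 8) F → Matrix (Fin 8) (Fin 8) F := fun X =>
    ∑ r : R, ((r : GL (Fin 8) F) : Matrix (Fin 8) (Fin 8) F) * X *
      (((r : GL (Fin 8) F)⁻¹ : GL (Fin 8) F) : Matrix (Fin 8) (Fin 8) F)
  have hav : ∀ X, ∃ s : F, av X = s • 1 ∧ (((8 : ℕ)) : F) * s = (Fintype.card R : F) * X.trace := by
    intro X
    obtain ⟨s, hs⟩ := habs.2 (av X) (by
      rintro _ ⟨g, hg, rfl⟩
      show (∑ r : R, _) * (g : Matrix (Fin 8) (Fin 8) F) = (g : Matrix (Fin 8) (Fin 8) F) * ∑ r : R, _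
      rw [Finset.sum_mul, Finset.mul_sum]
      refine Fintype.sum_equiv (Equiv.mulLeft (⟨g, hg⟩ : R)⁻¹) _ _ fun r => ?_
      simp only [Equiv.coe_mulLeft, Subgroup.coe_mul, Subgroup.coe_inv, _root_.mul_inv_rev, inv_inv, Units.val_mul]
      simp only [← mul_assoc, Units.mul_inv, one_mul])
    refine ⟨s, hs, ?_⟩
    have h := congrArg Matrix.trace hs
    rw [Matrix.trace_smul, Matrix.trace_one, Fintype.card_fin, smul_eq_mul] at h
    rw [mul_comm, ← h]
    show (∑ r : R, _ : Matrix (Fin 8) (Fin 8) F).trace = _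
    rw [Matrix.trace_sum, Finset.sum_congr rfl fun r _ => ?_, Finset.sum_const, Finset.card_univ, nsmul_eq_mul]
    rw [Matrix.trace_mul_comm, ← mul_assoc, Units.inv_mul, one_mul]
  have hnF : (((8 : ℕ)) : F) ≠ 0 := fun h => by
    obtain ⟨s, -, hs⟩ := hav (Matrix.single (Classical.arbitrary (Fin 8)) (Classical.arbitrary (Fin 8)) 1)
    rw [h, zero_mul, Matrix.trace_single_eq_same, mul_one] at hs
    exact hcard0 hs.symm
  have hspan : Submodule.span F (matrixSet R) = ⊤ := by
    have hunit : ∀ b k : Fin 8, Matrix.single b k (1 : F) ∈ Submodule.span F (matrixSet R) := by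
      intro b k
      have hmem : ∑ r : R, (((r : GL (Fin 8) F)⁻¹ : GL (Fin 8) F) : Matrix (Fin 8) (Fin 8) F) k b •
          ((r : GL (Fin 8) F) : Matrix (Fin 8) (Fin 8) F) ∈ Submodule.span F (matrixSet R) :=
        Submodule.sum_mem _ fun r _ => Submodule.smul_mem _ _ (Submodule.subset_span ⟨_, r.2, rfl⟩)
      have he : ∑ r : R, (((r : GL (Fin 8) F)⁻¹ : GL (Fin 8) F) : Matrix (Fin 8) (Fin 8) F) k b •
          ((r : GL (Fin 8) F) : Matrix (Fin 8) (Fin 8) F) =
            ((Fintype.card R : F) / ((8 : ℕ) : F)) • Matrix.single b k (1 : F) := by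
        ext a j
        obtain ⟨s, hs, hns⟩ := hav (Matrix.single j k 1)
        have h := congrFun (congrFun hs a) b
        simp only [av, Matrix.sum_apply, Matrix.smul_apply, Matrix.one_apply, smul_eq_mul] at h
        simp only [Matrix.sum_apply, Matrix.smul_apply, smul_eq_mul]
        have hterm : ∀ r : R, (((r : GL (Fin 8) F)⁻¹ : GL (Fin 8) F) : Matrix (Fin 8) (Fin 8) F) k b *
            ((r : GL (Fin 8) F) : Matrix (Fin 8) (Fin 8) F) a j =
          ((((r : GL (Fin 8) F) : Matrix (Fin 8) (Fin 8) F) * Matrix.single j k (1 : F) *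
            (((r : GL (Fin 8) F)⁻¹ : GL (Fin 8) F) : Matrix (Fin 8) (Fin 8) F) : Matrix (Fin 8) (Fin 8) F)) a b := by
          intro r
          rw [Matrix.mul_apply, Finset.sum_eq_single k, Matrix.mul_single_apply_same, mul_one, mul_comm]
          · intro x _ hx
            rw [Matrix.mul_single_apply_of_ne _ _ _ _ _ hx, zero_mul]
          · intro hk; exact absurd (Finset.mem_univ _) hk
        refine ((Finset.sum_congr rfl fun r _ => hterm r).trans h).trans ?_
        by_cases hjk : j = k
        · subst hjk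
          rw [Matrix.trace_single_eq_same, mul_one] at hns
          rw [Matrix.single_apply]
          by_cases hab : a = b
          · subst hab
            rw [← hns, mul_div_cancel_left₀ _ hnF]
            simp
          · simp [hab, Ne.symm hab]
        · rw [Matrix.trace_single_eq_of_ne _ _ _ hjk, mul_zero] at hns
          rw [(mul_eq_zero.1 hns).resolve_left hnF, Matrix.single_apply]
          simp [Ne.symm hjk]
      rw [he] at hmem
      exact (Submodule.smul_mem_iff _ (div_ne_zero hcard0 hnF)).1 hmem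
    refine Submodule.eq_top_iff'.2 fun X => ?_
    rw [Matrix.matrix_eq_sum_single X]
    refine Submodule.sum_mem _ fun a _ => Submodule.sum_mem _ fun b _ => ?_
    rw [show Matrix.single a b (X a b) = X a b • Matrix.single a b (1 : F) by simp]
    exact Submodule.smul_mem _ _ (hunit a b)
  refine ⟨c, ⟨hii, h2, fun r hr s hs => hS.sign hr hs, fun r hr => hS.square hr, hscal, hspan⟩, hnF, hiso, by
    rw [hcardR]⟩

end CfsgLib.Perm.Trans.PauliMax.UP
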