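import Cfsg.Agent.Lib.Perm.Trans.PauliMax.Unit.Base
import Cfsg.Agent.Lib.Perm.Trans.KleinSix.Unitary

/-!
# The four-dimensional case
-/

set_option autoImplicit false
set_option linter.all false

namespace CfsgLib.Perm.Trans.PauliMax.UP

open scoped Matrix
open Matrix Cfsg.Geo CfsgLib.Perm.Asch CfsgLib.Perm.Trans.PauliMax

variable {F : Type*} [Field F] {q : ℕ} {n : ℕ} {R : Subgroup (GL (Fin n) F)} {i : F}

theorem UPauli.absIrred (hR : UPauli (q := q) R i) : ActsAbsolutelyIrreducibly (matrixSet R) := by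
  haveI := hR.nonempty
  refine ⟨fun W hW => ?_, fun X hX => hR.pauli.scalar_of_commute fun r hr => hX _ ⟨r, hr, rfl⟩⟩
  have hall : ∀ Y : Matrix (Fin n) (Fin n) F, ∀ w ∈ W, Y *ᵥ w ∈ W := by
    intro Y
    have hY : Y ∈ Submodule.span F (matrixSet R) := hR.pauli.span.symm ▸ Submodule.mem_top
    induction hY using Submodule.span_induction with
    | mem y hy =>
      intro w hw
      have := hW y hy ⟨w, hw, rfl⟩
      rwa [Matrix.toLin'_apply] at this
    | zero => intro w _; rw [Matrix.zero_mulVec]; exact W.zero_mem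
    | add y z _ _ hy hz => intro w hw; rw [Matrix.add_mulVec]; exact W.add_mem (hy w hw) (hz w hw)
    | smul c y _ hy => intro w hw; rw [Matrix.smul_mulVec]; exact W.smul_mem c (hy w hw)
  by_cases hbot : W = ⊥
  · exact Or.inl hbot
  obtain ⟨w, hw, hw0⟩ := Submodule.exists_mem_ne_zero_of_ne_bot hbot
  obtain ⟨j, hj⟩ : ∃ j, w j ≠ 0 := Function.ne_iff.1 hw0
  refine Or.inr (Submodule.eq_top_iff'.2 fun v => ?_)
  have e : (Matrix.of fun a b => if b = j then v a / w j else 0) *ᵥ w = v := by
    funext a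
    rw [Matrix.mulVec, dotProduct, Finset.sum_eq_single j]
    · simp [hj]
    · intro b _ hb; simp [hb]
    · intro h; exact absurd (Finset.mem_univ j) h
  rw [← e]
  exact hall _ w hw

theorem UPauli.center_mem (hR : UPauli (q := q) R i) (x : R) :
    x ∈ Subgroup.center R ↔ IsScal (x : GL (Fin n) F) := by
  haveI := hR.nonempty
  rw [Subgroup.mem_center_iff]
  exact ⟨fun h => hR.pauli.scalar_of_commute fun r hr => by
      rw [← Units.val_mul, ← Units.val_mul]
      exact congrArg Units.val (congrArg Subtype.val (h ⟨r, hr⟩)).symm,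
    fun h g => Subtype.ext (h.comm _).symm⟩

/-- the fourth roots of unity -/
def root4 (i : F) : Fin 4 → F := ![1, i, -1, -i]

theorem UPauli.scalar_list (hR : UPauli (q := q) R i) {r : GL (Fin n) F} (hr : r ∈ R) (hs : IsScal r) :
    ∃ j, (r : Matrix (Fin n) (Fin n) F) = root4 i j • 1 := by
  obtain ⟨c, hc⟩ := hs
  have h4 := hR.scal_cases hr hc
  have h : (c - 1) * (c + 1) * ((c - i) * (c + i)) = 0 := by
    linear_combination h4 - (c * c - 1) * hR.pauli.ii
  rcases mul_eq_zero.1 h with h | h <;> rcases mul_eq_zero.1 h with h | h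
  · exact ⟨0, by rw [hc, sub_eq_zero.1 h]; rfl⟩
  · exact ⟨2, by rw [hc, eq_neg_of_add_eq_zero_left h]; rfl⟩
  · exact ⟨1, by rw [hc, sub_eq_zero.1 h]; rfl⟩
  · exact ⟨3, by rw [hc, eq_neg_of_add_eq_zero_left h]; rfl⟩

theorem UPauli.card_center (hR : UPauli (q := q) R i) : Nat.card (Subgroup.center R) = 4 := by
  haveI := hR.nonempty
  have hi0 := hR.pauli.i_ne_zero
  have h2 := hR.pauli.two
  have hi4 : i ^ 4 = 1 := by linear_combination (i * i - 1) * hR.pauli.ii
  have hroot : ∀ j, root4 i j ^ 4 = 1 := fun j => by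
    fin_cases j <;> simp [root4, hi4, Even.neg_pow (show Even 4 by decide)]
  have hmk : ∀ j, ∃ z : Subgroup.center R, (((z : R) : GL (Fin n) F) : Matrix (Fin n) (Fin n) F) = root4 i j • 1 := fun j => by
    have hne : root4 i j ≠ 0 := fun h => by simpa [h] using hroot j
    obtain ⟨g, hg⟩ : ∃ g : GL (Fin n) F, (g : Matrix (Fin n) (Fin n) F) = root4 i j • 1 :=
      ⟨sch (Fin n) F (Units.mk0 _ hne), by rw [sch_coe]; rfl⟩
    exact ⟨⟨⟨g, hR.scal_mem hg (hroot j)⟩, (hR.center_mem _).2 ⟨_, hg⟩⟩, hg⟩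
  choose z hz using hmk
  have hinj : Function.Injective z := fun a b h => by
    have h1 : root4 i a = root4 i b := by
      have := (hz a).symm.trans (h ▸ hz b)
      simpa using congrFun (congrFun this (Classical.arbitrary _)) (Classical.arbitrary _)
    have hne : (1 : F) ≠ -1 := fun h => h2 (by linear_combination h)
    have hne' : i ≠ -i := fun h => hi0 ((mul_eq_zero.1 (show (2 : F) * i = 0 by linear_combination h)).resolve_left h2)
    have hi1 : i ≠ 1 := fun h => h2 (by have := hR.pauli.ii; rw [h] at this; linear_combination this)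
    have hi2 : i ≠ -1 := fun h => h2 (by have := hR.pauli.ii; rw [h] at this; linear_combination this)
    fin_cases a <;> fin_cases b <;> simp_all [root4, eq_comm, neg_eq_iff_eq_neg]
  have hsurj : Function.Surjective z := fun c => by
    obtain ⟨j, hj⟩ := hR.scalar_list (c : R).2 ((hR.center_mem _).1 c.2)
    exact ⟨j, Subtype.ext (Subtype.ext (Units.ext ((hz j).trans hj.symm)))⟩
  rw [← Nat.card_congr (Equiv.ofBijective z ⟨hinj, hsurj⟩), Nat.card_fin]

theorem UPauli.isSymplecticType [Finite F] (hR : UPauli (q := q) R i) (hp : IsPGroup 2 R) :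
    IsSymplecticTypeGroup 2 R := by
  haveI := hR.nonempty
  have hP := hR.pauli
  haveI : Finite (Matrix (Fin n) (Fin n) F) := inferInstanceAs (Finite (Fin n → Fin n → F))
  haveI : Finite (GL (Fin n) F) := Finite.of_injective _ Units.val_injective
  refine ⟨Nat.prime_two, hp, fun A hA hcomm => ?_, ?_⟩
  · by_cases hall : ∀ v ∈ A, IsScal (v : GL (Fin n) F)
    · refine Subgroup.isCyclic_of_le (H' := Subgroup.zpowers (⟨sch (Fin n) F hP.iu, hP.iu_mem⟩ : R)) (fun v hv => ?_)
      obtain ⟨j, hj⟩ := hR.scalar_list v.2 (hall v hv)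
      refine ⟨(j : ℕ), Subtype.ext (Units.ext ?_)⟩
      show (((⟨sch (Fin n) F hP.iu, hP.iu_mem⟩ : R) ^ ((j : ℕ) : ℤ) : R) : GL (Fin n) F).val = _
      rw [zpow_natCast, SubgroupClass.coe_pow, Units.val_pow_eq_pow_val, sch_coe, smul_pow, one_pow, hj]
      congr 1
      fin_cases j <;> simp [root4, Pauli.iu, pow_succ, hP.ii]
    · exfalso
      push Not at hall
      obtain ⟨v, hvA, hv⟩ := hall
      obtain ⟨a, ha, hav⟩ := hP.exists_anti v.2 hv
      obtain ⟨a', c, ha', hc0, he⟩ := hP.exists_invo ha (fun ⟨c, hc⟩ => hv (by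
        exfalso
        rw [hc, mul_smul_comm, smul_mul_assoc, mul_one, one_mul] at hav
        have h1 : ((2 : F) * c) • ((v : GL (Fin n) F) : Matrix (Fin n) (Fin n) F) = 0 := by
          rw [two_mul, add_smul]; nth_rw 1 [hav]; rw [neg_add_cancel]
        rcases smul_eq_zero.1 h1 with h | h
        · exact a.ne_zero (by rw [hc, (mul_eq_zero.1 h).resolve_left hP.two, zero_smul])
        · exact ((v : GL (Fin n) F)).ne_zero h))
      rw [he, mul_smul_comm, smul_mul_assoc, ← smul_neg] at hav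
      have hav' := smul_right_injective _ hc0 hav
      set g := ha'.G hP with hg
      let ψ : R ≃* R :=
        { toFun := fun x => ⟨g * x * g⁻¹, ha'.G_conj_mem hP x.2⟩
          invFun := fun x => ⟨g⁻¹ * x * g⁻¹⁻¹, by
            have h := (Subgroup.mem_normalizer_iff.1 (Subgroup.inv_mem _ (ha'.G_mem_normalizer hP)) x).1 x.2
            exact h⟩
          left_inv := fun x => Subtype.ext (by simp [mul_assoc])
          right_inv := fun x => Subtype.ext (by simp [mul_assoc])
          map_mul' := fun x y => Subtype.ext (by simp [mul_assoc]) }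
      have hmem : ψ v ∈ A := Subgroup.characteristic_iff_map_le.1 hA ψ ⟨v, hvA, rfl⟩
      have hcm := congrArg (fun z : A => (((z : R) : GL (Fin n) F) : Matrix (Fin n) (Fin n) F))
        (hcomm.is_comm.comm ⟨v, hvA⟩ ⟨ψ v, hmem⟩)
      simp only [Subgroup.coe_mul, Units.val_mul] at hcm
      rw [show (((ψ v : R) : GL (Fin n) F) : Matrix (Fin n) (Fin n) F) = (-i) • ((a' : Matrix (Fin n) (Fin n) F) * (v : GL (Fin n) F))
        from ha'.G_anti hP hav', mul_smul_comm, smul_mul_assoc, ← mul_assoc, hav', neg_mul, smul_neg] at hcm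
      have h1 : ((2 : F) * (-i)) • ((a' : Matrix (Fin n) (Fin n) F) * (v : GL (Fin n) F) * (v : GL (Fin n) F)) = 0 := by
        rw [two_mul, add_smul]; nth_rw 1 [← hcm]; rw [neg_add_cancel]
      have hne := (a' * (v : GL (Fin n) F) * (v : GL (Fin n) F)).ne_zero
      rw [Units.val_mul, Units.val_mul] at hne
      exact hne ((smul_eq_zero.1 h1).resolve_left (mul_ne_zero hP.two (neg_ne_zero.2 hP.i_ne_zero)))
  · refine Nat.dvd_antisymm (Monoid.exponent_dvd_iff_forall_pow_eq_one.2 fun x => Subtype.ext (Units.ext ?_)) ?_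
    · rw [show 2 * Nat.gcd 2 2 = 2 + 2 by norm_num, SubgroupClass.coe_pow, Units.val_pow_eq_pow_val, pow_add, pow_two]
      rcases hP.square x x.2 with h | h <;> rw [h] <;> simp
    · refine dvd_trans (dvd_of_eq ?_) (Monoid.order_dvd_exponent (⟨sch (Fin n) F hP.iu, hP.iu_mem⟩ : R))
      rw [show 2 * Nat.gcd 2 2 = 2 ^ (1 + 1) by norm_num]
      refine (orderOf_eq_prime_pow (p := 2) (n := 1) ?_ ?_).symm
      · intro e
        have e' := congrFun (congrFun (congrArg (fun z : R => ((z : GL (Fin n) F) : Matrix (Fin n) (Fin n) F)) e)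
          (Classical.arbitrary _)) (Classical.arbitrary _)
        simp [Pauli.iu, sch_coe, pow_two, hP.ii] at e'
        exact hP.two (by linear_combination -e')
      · refine Subtype.ext (Units.ext ?_)
        rw [SubgroupClass.coe_pow, Units.val_pow_eq_pow_val, sch_coe, smul_pow, one_pow]
        simp [Pauli.iu, pow_succ, hP.ii]

/-- **The four-dimensional case.** -/
theorem four_dichotomy [Fintype F] (hF : Fintype.card F = q ^ 2) (hq : q.Prime) (hq4 : q % 4 = 3)
    {R : Subgroup (GL (Fin 4) F)} (hR : UPauli (q := q) R i) {M : Subgroup (GL (Fin 4) F)}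
    (hN : Subgroup.normalizer (R : Set (GL (Fin 4) F)) ⊓ (Cfsg.GU 4 F q ⊓ specialLinear (Fin 4) F) ≤ M)
    (hM : M ≤ Cfsg.GU 4 F q ⊓ specialLinear (Fin 4) F) :
    M ≤ Subgroup.normalizer (R : Set (GL (Fin 4) F)) ∨ M = Cfsg.GU 4 F q ⊓ specialLinear (Fin 4) F := by
  have hp : IsPGroup 2 R := IsPGroup.of_card (n := 6) (by rw [hR.card]; norm_num)
  have hmax := KleinSix.su4_symType_maximal q hF q R hq rfl hq4 (hR.isSymplecticType hp) hR.absIrred hR.iso
    (by rw [hR.card]) hR.card_center
  rcases hmax.2 M hN hM with h | h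
  · exact Or.inl (h ▸ inf_le_left)
  · exact Or.inr h

end CfsgLib.Perm.Trans.PauliMax.UP
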