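import Cfsg.Agent.Lib.Perm.Trans.PauliMax.Unit.Base
import Cfsg.Agent.Lib.Perm.Trans.UnitSU
import Mathlib.LinearAlgebra.Matrix.ToLin

/-!
# Orthonormal coordinates on the two eigenspaces of an involution of the group
-/

set_option autoImplicit false
set_option linter.all false

namespace CfsgLib.Perm.Trans.PauliMax.UP

open scoped Matrix
open Matrix Cfsg.Geo CfsgLib.Perm.Asch CfsgLib.Perm.Trans CfsgLib.Perm.Trans.PauliMax

variable {F : Type*} [Field F] [Fintype F]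

/-- an orthonormal basis of a nondegenerate subspace -/
theorem exists_onb {ι : Type} [Fintype ι] [DecidableEq ι] {σ : F ≃+* F} {f : (ι → F) → (ι → F) → F}
    (hf : IsUnitaryForm σ f) : ∀ (k : ℕ) (W : Submodule F (ι → F)), IsNondegenerateOn f W → Module.finrank F W = k →
      ∃ v : Fin k → ι → F, (∀ j, v j ∈ W) ∧ ∀ j l, f (v j) (v l) = if j = l then 1 else 0 := by
  intro k
  induction k with
  | zero => exact fun W _ _ => ⟨Fin.elim0, fun j => j.elim0, fun j => j.elim0⟩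
  | succ k ih =>
    intro W hW hk
    obtain ⟨p, hp, hpp⟩ := Unit.exists_anisotropic hf hW (fun h => by rw [h, finrank_bot] at hk; omega)
    obtain ⟨ν, hν⟩ := exists_norm hf (d := (f p p)⁻¹) (by rw [map_inv₀, ← hf.herm])
    obtain ⟨a, ha⟩ : ∃ a, a = ν • p := ⟨_, rfl⟩
    have haa : f a a = 1 := by
      rw [ha, hf.smul_left, herm_smul_right hf, ← mul_assoc, hν, inv_mul_cancel₀ hpp]
    have haW : a ∈ W := ha ▸ W.smul_mem ν hp
    obtain ⟨hnd, hfr⟩ := Unit.sub_perp hf hW (Unit.isNondegenerateOn_singleton hf (p := a) (by rw [haa]; exact one_ne_zero))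
      (Submodule.span_le.2 (by simp [haW]))
    have h1 : Module.finrank F (Submodule.span F ({a} : Set (ι → F))) = 1 :=
      finrank_span_singleton fun h => by
        rw [h, herm_zero_left hf] at haa
        exact zero_ne_one haa
    obtain ⟨v, hv, hvv⟩ := ih _ hnd (by omega)
    refine ⟨Fin.cons a v, fun j => ?_, fun j l => ?_⟩
    · refine Fin.cases ?_ (fun j => ?_) j
      · exact haW
      · exact (hv j).1
    · refine Fin.cases ?_ (fun j => ?_) j <;> refine Fin.cases ?_ (fun l => ?_) l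
      · simpa using haa
      · simp only [Fin.cons_zero, Fin.cons_succ]
        rw [if_neg (Fin.succ_ne_zero l).symm]
        exact herm_swap_zero hf ((hv l).2 a (Submodule.mem_span_singleton_self a))
      · simp only [Fin.cons_zero, Fin.cons_succ]
        rw [if_neg (Fin.succ_ne_zero j)]
        exact (hv j).2 a (Submodule.mem_span_singleton_self a)
      · simp only [Fin.cons_succ, hvv, Fin.succ_inj]

variable {q : ℕ} {R : Subgroup (GL (Fin 8) F)} {i : F}

/-- orthonormal coordinates on the two eigenspaces of `u` exchanged by `w` -/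
structure Frame (C : CfsgLib.SU.UCtx F q) (R : Subgroup (GL (Fin 8) F)) (i : F) where
  pauli : UPauli (q := q) R i
  u : GL (Fin 8) F
  w : GL (Fin 8) F
  hu : Invo R u
  hw : Invo R w
  anti : (u : Matrix (Fin 8) (Fin 8) F) * w = -((w : Matrix (Fin 8) (Fin 8) F) * u)
  J : Matrix (Fin 8) (Fin 4) F
  EJ : adj C J * J = 1
  JE : J * adj C J = sp (u : Matrix (Fin 8) (Fin 8) F) 1 0

variable {C : CfsgLib.SU.UCtx F q}

theorem exists_frame (hR : UPauli (q := q) R i) {u : GL (Fin 8) F} (hu : Invo R u) :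
    ∃ φ : Frame C R i, φ.u = u := by
  haveI := hR.nonempty
  have hP := hR.pauli
  obtain ⟨w, hw, huw⟩ := hu.exists_anti hP
  set U := (u : Matrix (Fin 8) (Fin 8) F) with hU
  set W := (w : Matrix (Fin 8) (Fin 8) F) with hW
  set P := sp U 1 0 with hPdef
  have hPP : P * P = P := by rw [hPdef, sp_mul hu.sq hP.two, one_mul, zero_mul]
  have hWP : W * P = (1 - P) * W := by
    rw [hPdef, sp_anti (X := W) (by rw [hU, hW, huw, neg_neg])]
    congr 1
    rw [sp, sp]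
    match_scalars <;> field_simp [hP.two] <;> ring
  have hadj : adj C P = P := by rw [hPdef, bar_sp_adj C (hR.invo_adj C hu), map_one, map_zero]
  set L := Matrix.mulVecLin P with hL
  have hWW : ∀ x, W *ᵥ (W *ᵥ x) = x := fun x => by rw [mulVec_mulVec, hW, hw.sq, one_mulVec]
  have hrk : ∀ x, x ∈ LinearMap.range L ↔ P *ᵥ x = x := fun x =>
    ⟨fun ⟨y, hy⟩ => by rw [← hy, hL, mulVecLin_apply, mulVec_mulVec, hPP], fun h => ⟨x, h⟩⟩
  let e : LinearMap.range L ≃ₗ[F] LinearMap.ker L :=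
    { toFun := fun x => ⟨W *ᵥ x.1, by
        show P *ᵥ (W *ᵥ x.1) = 0
        have h := congrArg (fun X => X *ᵥ x.1) hWP
        simp only [← mulVec_mulVec, sub_mulVec, one_mulVec, (hrk _).1 x.2] at h
        exact sub_eq_self.1 h.symm⟩
      map_add' := fun x y => Subtype.ext (mulVec_add W x.1 y.1)
      map_smul' := fun c x => Subtype.ext (mulVec_smul W c x.1)
      invFun := fun x => ⟨W *ᵥ x.1, (hrk _).2 (by
        have hx : P *ᵥ x.1 = 0 := x.2
        have h := congrArg (fun X => X *ᵥ (W *ᵥ x.1)) hWP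
        simp only [← mulVec_mulVec, sub_mulVec, one_mulVec, hWW, hx, sub_zero] at h
        have h2 := congrArg (W *ᵥ ·) h
        simpa only [hWW] using h2)⟩
      left_inv := fun x => Subtype.ext (hWW _)
      right_inv := fun x => Subtype.ext (hWW _) }
  have hdim : Module.finrank F (LinearMap.range L) = 4 := by
    have h1 := LinearMap.finrank_range_add_finrank_ker L
    rw [← e.finrank_eq, Module.finrank_fintype_fun_eq_card, Fintype.card_fin] at h1
    omega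
  have hf := Unit.isUnitary_hermForm C (n := 8)
  obtain ⟨v, hv, hvv⟩ := exists_onb hf 4 (LinearMap.range L) (fun x hx hx0 => by
    have hx' := (hrk x).1 hx
    obtain ⟨y, hy⟩ := (hf.nondegenerate x hx0).2
    have key : Cfsg.hermForm 8 F q x (P *ᵥ y) = Cfsg.hermForm 8 F q x y := by
      conv_rhs => rw [← hx']
      rw [herm_eq C, herm_eq C, form_mulVec C P x y, hadj]
    exact ⟨⟨P *ᵥ y, ⟨y, rfl⟩, fun h => hy (by rw [← key, hf.herm, h, map_zero])⟩,
      ⟨P *ᵥ y, ⟨y, rfl⟩, by rw [key]; exact hy⟩⟩) hdim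
  obtain ⟨J, hJ⟩ : ∃ J : Matrix (Fin 8) (Fin 4) F, J = Matrix.of fun a j => v j a := ⟨_, rfl⟩
  have hEJ : adj C J * J = 1 := by
    ext j l
    rw [Matrix.one_apply]
    have h := hvv l j
    rw [herm_eq C] at h
    rw [show (if j = l then (1 : F) else 0) = if l = j then 1 else 0 by simp [eq_comm], ← h, Matrix.mul_apply]
    simp only [adj, hJ, transpose_apply, map_apply, of_apply, CfsgLib.SU.UCtx.form]
    exact Finset.sum_congr rfl fun a _ => mul_comm _ _
  have hPJ : P * J = J := by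
    refine Matrix.ext fun a j => ?_
    have h := congrFun ((hrk _).1 (hv j)) a
    rw [hJ]
    exact h
  have hspan : ∀ x, x ∈ LinearMap.range L → ∃ c, J *ᵥ c = x := by
    have hinj : Function.Injective (Matrix.mulVecLin J) := fun c d h => by
      have := congrArg (adj C J *ᵥ ·) h
      simpa [mulVec_mulVec, hEJ] using this
    have hle : LinearMap.range (Matrix.mulVecLin J) ≤ LinearMap.range L := by
      rintro _ ⟨c, rfl⟩
      exact ⟨J *ᵥ c, by rw [hL, mulVecLin_apply, mulVecLin_apply, mulVec_mulVec, hPJ]⟩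
    have heq := Submodule.eq_of_le_of_finrank_le hle (by
      rw [LinearMap.finrank_range_of_inj hinj, hdim, Module.finrank_fin_fun])
    intro x hx
    rw [← heq] at hx
    exact hx
  have hJEP : J * adj C J * P = P := Matrix.ext_of_mulVec_single fun j => by
    obtain ⟨c, hc⟩ := hspan (P *ᵥ Pi.single j 1) ⟨_, rfl⟩
    rw [← mulVec_mulVec, ← hc, mulVec_mulVec, Matrix.mul_assoc, hEJ, Matrix.mul_one]
  have hJE : J * adj C J = P := by
    have h := congrArg (adj C) hJEP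
    rw [adj_mul, adj_mul, adj_adj, hadj, ← Matrix.mul_assoc, hPJ] at h
    exact h
  exact ⟨⟨hR, u, w, hu, hw, huw, J, hEJ, hJE⟩, rfl⟩

namespace Frame

variable (φ : Frame C R i)

/-- `φ.u` as a matrix -/
abbrev U : Matrix (Fin 8) (Fin 8) F := (φ.u : Matrix (Fin 8) (Fin 8) F)

/-- `φ.w` as a matrix -/
abbrev W : Matrix (Fin 8) (Fin 8) F := (φ.w : Matrix (Fin 8) (Fin 8) F)

/-- the projection -/
abbrev P : Matrix (Fin 8) (Fin 8) F := sp φ.U 1 0

/-- the coordinates -/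
abbrev E : Matrix (Fin 4) (Fin 8) F := adj C φ.J

theorem two (φ : Frame C R i) : (2 : F) ≠ 0 := φ.pauli.pauli.two

theorem WW : φ.W * φ.W = 1 := φ.hw.sq

theorem WU : φ.W * φ.U = -(φ.U * φ.W) := by rw [U, W, φ.anti, neg_neg]

theorem adj_W : adj C φ.W = φ.W := φ.pauli.invo_adj C φ.hw

theorem PP : φ.P * φ.P = φ.P := by rw [sp_mul φ.hu.sq φ.two, one_mul, zero_mul]

theorem WPW : φ.W * φ.P * φ.W = 1 - φ.P := by
  rw [sp_anti φ.WU, mul_assoc, φ.WW, mul_one]
  simp only [P, sp]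
  match_scalars <;> field_simp [φ.two] <;> ring

theorem PWP : φ.P * φ.W * φ.P = 0 := by
  rw [mul_assoc, sp_anti φ.WU, ← mul_assoc, sp_mul φ.hu.sq φ.two, mul_zero, zero_mul,
    show sp φ.U (0 : F) 0 = 0 by simp [sp], zero_mul]

theorem EP : φ.E * φ.P = φ.E := by
  rw [show φ.P = φ.J * φ.E from φ.JE.symm, ← Matrix.mul_assoc, φ.EJ, Matrix.one_mul]

theorem PJ : φ.P * φ.J = φ.J := by
  rw [show φ.P = φ.J * φ.E from φ.JE.symm, Matrix.mul_assoc, φ.EJ, Matrix.mul_one]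

theorem UJ : φ.U * φ.J = φ.J := by
  have h : φ.U * φ.P = φ.P := by
    rw [← sp_one_neg_one (U := φ.U) φ.two, P, sp_mul φ.hu.sq φ.two, one_mul, mul_zero]
  rw [← φ.PJ, ← Matrix.mul_assoc, h]

theorem EU : φ.E * φ.U = φ.E := by
  have h := congrArg (adj C) φ.UJ
  rwa [adj_mul, φ.pauli.invo_adj C φ.hu] at h

theorem EWJ : φ.E * φ.W * φ.J = 0 := by
  conv_lhs => rw [← φ.EP, ← φ.PJ]
  rw [show φ.E * φ.P * φ.W * (φ.P * φ.J) = φ.E * (φ.P * φ.W * φ.P) * φ.J by simp only [Matrix.mul_assoc], φ.PWP,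
    Matrix.mul_zero, Matrix.zero_mul]

theorem comm_P {X : Matrix (Fin 8) (Fin 8) F} (h : X * φ.U = φ.U * X) : X * φ.P = φ.P * X := sp_comm h 1 0

/-- restriction to the fixed space -/
def rp (X : Matrix (Fin 8) (Fin 8) F) : Matrix (Fin 4) (Fin 4) F := φ.E * X * φ.J

/-- extension -/
def ext (a b : Matrix (Fin 4) (Fin 4) F) : Matrix (Fin 8) (Fin 8) F :=
  φ.J * a * φ.E + φ.W * (φ.J * b * φ.E) * φ.W

theorem rp_one : φ.rp 1 = 1 := by rw [rp, Matrix.mul_one, φ.EJ]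

theorem rp_mul {X Y : Matrix (Fin 8) (Fin 8) F} (h : Y * φ.U = φ.U * Y) : φ.rp (X * Y) = φ.rp X * φ.rp Y := by
  have e : φ.rp X * φ.rp Y = φ.E * X * (φ.J * φ.E) * Y * φ.J := by simp only [rp, Matrix.mul_assoc]
  rw [e, φ.JE, Matrix.mul_assoc (φ.E * X) φ.P Y, ← φ.comm_P h, ← Matrix.mul_assoc (φ.E * X) Y φ.P,
    Matrix.mul_assoc _ φ.P φ.J, φ.PJ, rp, ← Matrix.mul_assoc]

theorem rp_ext (a b : Matrix (Fin 4) (Fin 4) F) : φ.rp (φ.ext a b) = a := by
  have e : φ.rp (φ.ext a b) = (φ.E * φ.J) * a * (φ.E * φ.J) + (φ.E * φ.W * φ.J) * b * (φ.E * φ.W * φ.J) := by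
    simp only [rp, ext, Matrix.mul_add, Matrix.add_mul, Matrix.mul_assoc]
  rw [e, φ.EJ, φ.EWJ, Matrix.one_mul, Matrix.mul_one, Matrix.zero_mul, Matrix.zero_mul, add_zero]

theorem W_ext_W (a b : Matrix (Fin 4) (Fin 4) F) : φ.W * φ.ext a b * φ.W = φ.ext b a := by
  rw [ext, ext, mul_add, add_mul, show φ.W * (φ.W * (φ.J * b * φ.E) * φ.W) * φ.W =
    (φ.W * φ.W) * (φ.J * b * φ.E) * (φ.W * φ.W) by simp only [mul_assoc], φ.WW, one_mul, mul_one, add_comm]

theorem JrpE (X : Matrix (Fin 8) (Fin 8) F) : φ.J * φ.rp X * φ.E = φ.P * X * φ.P := by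
  simp only [rp, P, ← φ.JE, Matrix.mul_assoc]

theorem ext_rp {X : Matrix (Fin 8) (Fin 8) F} (h : X * φ.U = φ.U * X) :
    φ.ext (φ.rp X) (φ.rp (φ.W * X * φ.W)) = X := by
  rw [ext, φ.JrpE, φ.JrpE, show φ.W * (φ.P * (φ.W * X * φ.W) * φ.P) * φ.W =
    (φ.W * φ.P * φ.W) * X * (φ.W * φ.P * φ.W) by simp only [mul_assoc], φ.WPW, ← φ.comm_P h, mul_assoc,
    φ.PP, sub_mul, one_mul, ← φ.comm_P h, sub_mul, mul_sub, mul_sub, mul_one, mul_one, mul_assoc, φ.PP]
  abel

theorem ext_mul (a b c d : Matrix (Fin 4) (Fin 4) F) : φ.ext a b * φ.ext c d = φ.ext (a * c) (b * d) := by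
  have e1 : ∀ a c : Matrix (Fin 4) (Fin 4) F, φ.J * a * φ.E * (φ.J * c * φ.E) = φ.J * (a * c) * φ.E := fun a c => by
    rw [show φ.J * a * φ.E * (φ.J * c * φ.E) = φ.J * a * (φ.E * φ.J) * c * φ.E by simp only [Matrix.mul_assoc],
      φ.EJ, Matrix.mul_one, Matrix.mul_assoc φ.J a c]
  have e3 : φ.J * a * φ.E * (φ.W * (φ.J * d * φ.E) * φ.W) = 0 := by
    rw [show φ.J * a * φ.E * (φ.W * (φ.J * d * φ.E) * φ.W) = φ.J * a * (φ.E * φ.W * φ.J) * (d * φ.E * φ.W) by
      simp only [Matrix.mul_assoc], φ.EWJ, Matrix.mul_zero, Matrix.zero_mul]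
  have e4 : φ.W * (φ.J * b * φ.E) * φ.W * (φ.J * c * φ.E) = 0 := by
    rw [show φ.W * (φ.J * b * φ.E) * φ.W * (φ.J * c * φ.E) = φ.W * φ.J * b * (φ.E * φ.W * φ.J) * (c * φ.E) by
      simp only [Matrix.mul_assoc], φ.EWJ, Matrix.mul_zero, Matrix.zero_mul]
  rw [ext, ext, ext, add_mul, mul_add, mul_add, e1, e3, e4, add_zero, zero_add,
    show φ.W * (φ.J * b * φ.E) * φ.W * (φ.W * (φ.J * d * φ.E) * φ.W) =
      φ.W * (φ.J * b * φ.E) * (φ.W * φ.W) * (φ.J * d * φ.E) * φ.W by simp only [mul_assoc],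
    φ.WW, mul_one, mul_assoc φ.W, e1]

theorem ext_one : φ.ext 1 1 = 1 := by
  rw [ext, Matrix.mul_one, φ.JE, φ.WPW, add_sub_cancel]

theorem ext_one_neg : φ.ext 1 (-1) = φ.U := by
  rw [ext, Matrix.mul_one, φ.JE, Matrix.mul_neg, Matrix.neg_mul, Matrix.mul_one, φ.JE, mul_neg, neg_mul, φ.WPW]
  simp only [P, sp]
  match_scalars <;> field_simp [φ.two] <;> ring

theorem ext_comm (a b : Matrix (Fin 4) (Fin 4) F) : φ.ext a b * φ.U = φ.U * φ.ext a b := by
  rw [← φ.ext_one_neg, φ.ext_mul, φ.ext_mul, Matrix.mul_one, Matrix.one_mul, Matrix.mul_neg, Matrix.neg_mul,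
    Matrix.mul_one, Matrix.one_mul]

theorem adj_ext (a b : Matrix (Fin 4) (Fin 4) F) : adj C (φ.ext a b) = φ.ext (adj C a) (adj C b) := by
  simp only [ext, adj_add, adj_mul, adj_adj, φ.adj_W, Matrix.mul_assoc]

theorem det_ext (a b : Matrix (Fin 4) (Fin 4) F) : (φ.ext a b).det = a.det * b.det := by
  obtain ⟨Pm, hPm⟩ : ∃ Pm : Matrix (Fin 8) (Fin 4 ⊕ Fin 4) F, Pm = Matrix.fromCols φ.J (φ.W * φ.J) := ⟨_, rfl⟩
  obtain ⟨Qm, hQm⟩ : ∃ Qm : Matrix (Fin 4 ⊕ Fin 4) (Fin 8) F, Qm = Matrix.fromRows φ.E (φ.E * φ.W) := ⟨_, rfl⟩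
  have hQP : Qm * Pm = 1 := by
    rw [hQm, hPm, Matrix.fromRows_mul_fromCols, ← Matrix.mul_assoc, ← Matrix.mul_assoc, φ.EJ, φ.EWJ,
      Matrix.mul_assoc φ.E φ.W φ.W, φ.WW, Matrix.mul_one, φ.EJ, Matrix.fromBlocks_one]
  have h : φ.ext a b = Pm * (Matrix.fromBlocks a 0 0 b * Qm) := by
    rw [hQm, hPm, Matrix.fromBlocks_mul_fromRows, Matrix.fromCols_mul_fromRows, ext]
    simp only [Matrix.zero_mul, add_zero, zero_add, Matrix.mul_assoc]
  obtain ⟨e⟩ : Nonempty (Fin 8 ≃ Fin 4 ⊕ Fin 4) := ⟨(finSumFinEquiv : Fin 4 ⊕ Fin 4 ≃ Fin 8).symm⟩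
  have hX : φ.ext a b = Pm.submatrix id e * (Matrix.fromBlocks a 0 0 b).submatrix e e * Qm.submatrix e id := by
    rw [h, Matrix.submatrix_mul_equiv, Matrix.submatrix_mul_equiv, Matrix.submatrix_id_id, Matrix.mul_assoc]
  have h1 : Qm.submatrix e id * Pm.submatrix id e = 1 := by
    rw [← Matrix.submatrix_mul _ _ e id e Function.bijective_id, hQP, Matrix.submatrix_one_equiv]
  have h2 := congrArg Matrix.det h1
  rw [det_mul, det_one] at h2
  rw [hX, det_mul, det_mul, Matrix.det_submatrix_equiv_self, Matrix.det_fromBlocks_zero₂₁]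
  linear_combination (a.det * b.det) * h2

end Frame

end CfsgLib.Perm.Trans.PauliMax.UP
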