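import Mathlib.GroupTheory.QuotientGroup.Basic
import Mathlib.GroupTheory.OrderOfElement
import Mathlib.Algebra.BigOperators.Group.Finset.Basic
import Mathlib.Data.Int.Order.Units
import Mathlib.RingTheory.IntegralDomain
import Mathlib.Tactic

/-!
# An elementary abelian group of order 64 containing the fusion of its elements

`A` has order `64` and exponent `2`, contains the centralisers of its nontrivial elements in its normaliser `N`, which
is transitive on them and preserves a nondegenerate form.  Conjugates of elements of `A` lying in `N` have square roots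
in `N`, and some involution of `N` centralises an element of `A` outside its commutator with `A`.  Then `A` is normal.
-/

set_option autoImplicit false
set_option linter.all false

namespace CfsgLib.Perm.Trans.PauliMax.UFusion

variable {G : Type*} [Group G]

/-- commuting of `x` with `b`, as a map on `A` -/
def mov (b x : G) : G := x * (b * x * b⁻¹)

/-- the elements of `A` commuting with `b` -/
def fixA (A : Subgroup G) (b : G) : Subgroup G := A ⊓ Subgroup.centralizer {b}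

theorem mem_fixA {A : Subgroup G} {b x : G} : x ∈ fixA A b ↔ x ∈ A ∧ b * x = x * b := by
  rw [fixA, Subgroup.mem_inf, Subgroup.mem_centralizer_singleton_iff]
  exact and_congr_right fun _ => eq_comm

/-- the hypotheses -/
structure Hyp (A : Subgroup G) (β : G → G → ℤˣ) : Prop where
  exp : ∀ a ∈ A, a * a = 1
  card : Nat.card A = 64
  cen : ∀ a ∈ A, a ≠ 1 → ∀ g, g * a = a * g → g ∈ Subgroup.normalizer (A : Set G)
  inner : ∀ g ∈ Subgroup.normalizer (A : Set G), (∀ a ∈ A, g * a = a * g) → g ∈ A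
  trans : ∀ a ∈ A, a ≠ 1 → ∀ b ∈ A, b ≠ 1 → ∃ k ∈ Subgroup.normalizer (A : Set G), k * a * k⁻¹ = b
  mul : ∀ a ∈ A, ∀ b ∈ A, ∀ c ∈ A, β (a * b) c = β a c * β b c
  symm : ∀ a ∈ A, ∀ b ∈ A, β a b = β b a
  nondeg : ∀ a ∈ A, a ≠ 1 → ∃ b ∈ A, β a b ≠ 1
  inv : ∀ k ∈ Subgroup.normalizer (A : Set G), ∀ a ∈ A, ∀ b ∈ A, β (k * a * k⁻¹) (k * b * k⁻¹) = β a b
  root : ∀ g, ∀ a ∈ A, g * a * g⁻¹ ∈ Subgroup.normalizer (A : Set G) → g * a * g⁻¹ ∉ A →
    8 ≤ Nat.card (fixA A (g * a * g⁻¹)) → ∃ v ∈ Subgroup.normalizer (A : Set G), v * v = g * a * g⁻¹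
  invol : ∃ t ∈ Subgroup.normalizer (A : Set G), t * t = 1 ∧ (∃ x ∈ A, mov t x ≠ 1) ∧
    ∃ u ∈ A, u ≠ 1 ∧ t * u = u * t ∧ ∀ x ∈ A, mov t x ≠ u

variable {A : Subgroup G} {β : G → G → ℤˣ} (hA : Hyp A β)
include hA

theorem conj_mem {k x : G} (hk : k ∈ Subgroup.normalizer (A : Set G)) (hx : x ∈ A) : k * x * k⁻¹ ∈ A :=
  (Subgroup.mem_normalizer_iff.1 hk x).1 hx

theorem comm {a b : G} (ha : a ∈ A) (hb : b ∈ A) : a * b = b * a := by
  have h := inv_eq_of_mul_eq_one_right (hA.exp _ (A.mul_mem ha hb))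
  rw [_root_.mul_inv_rev, inv_eq_of_mul_eq_one_right (hA.exp _ ha), inv_eq_of_mul_eq_one_right (hA.exp _ hb)] at h
  exact h.symm

theorem mov_mem {b x : G} (hb : b ∈ Subgroup.normalizer (A : Set G)) (hx : x ∈ A) : mov b x ∈ A :=
  A.mul_mem hx (conj_mem hA hb hx)

theorem mov_mul {b x y : G} (hb : b ∈ Subgroup.normalizer (A : Set G)) (hx : x ∈ A) (hy : y ∈ A) :
    mov b (x * y) = mov b x * mov b y := by
  have h := comm hA hy (conj_mem hA hb hx)
  unfold mov
  rw [show b * (x * y) * b⁻¹ = (b * x * b⁻¹) * (b * y * b⁻¹) by group,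
    show x * y * ((b * x * b⁻¹) * (b * y * b⁻¹)) = x * (y * (b * x * b⁻¹)) * (b * y * b⁻¹) by group, h]
  group

theorem mov_eq_one_iff {b x : G} (hb : b ∈ Subgroup.normalizer (A : Set G)) (hx : x ∈ A) :
    mov b x = 1 ↔ b * x = x * b := by
  rw [mov, mul_eq_one_iff_inv_eq, inv_eq_of_mul_eq_one_right (hA.exp _ hx), eq_comm (a := x), mul_inv_eq_iff_eq_mul]

/-- movement as a homomorphism -/
def movHom {b : G} (hb : b ∈ Subgroup.normalizer (A : Set G)) : A →* A where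
  toFun x := ⟨mov b x, mov_mem hA hb x.2⟩
  map_one' := Subtype.ext (by simp [mov])
  map_mul' x y := Subtype.ext (mov_mul hA hb x.2 y.2)

theorem card_movHom_ker {b : G} (hb : b ∈ Subgroup.normalizer (A : Set G)) :
    Nat.card (movHom hA hb).ker = Nat.card (fixA A b) := by
  refine Nat.card_congr
    { toFun := fun x => ⟨x.1.1, mem_fixA.2 ⟨x.1.2, (mov_eq_one_iff hA hb x.1.2).1 (congrArg Subtype.val x.2)⟩⟩
      invFun := fun x => ⟨⟨x.1, (mem_fixA.1 x.2).1⟩, Subtype.ext ((mov_eq_one_iff hA hb (mem_fixA.1 x.2).1).2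
        (mem_fixA.1 x.2).2)⟩
      left_inv := fun x => Subtype.ext (Subtype.ext rfl)
      right_inv := fun x => Subtype.ext rfl }

theorem mov_mov {b x : G} (hb : b ∈ Subgroup.normalizer (A : Set G)) (hx : x ∈ A) :
    mov b (mov b x) = mov (b * b) x := by
  have h2 := hA.exp _ (conj_mem hA hb hx)
  unfold mov
  rw [show x * (b * x * b⁻¹) * (b * (x * (b * x * b⁻¹)) * b⁻¹) =
    x * ((b * x * b⁻¹) * (b * x * b⁻¹)) * (b * b * x * (b * b)⁻¹) by group, h2, mul_one]

theorem mov_mem_fix {b x : G} (hb : b ∈ Subgroup.normalizer (A : Set G)) (hbb : b * b = 1) (hx : x ∈ A) :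
    mov b x ∈ fixA A b := by
  refine mem_fixA.2 ⟨mov_mem hA hb hx, (mov_eq_one_iff hA hb (mov_mem hA hb hx)).1 ?_⟩
  rw [mov_mov hA hb hx, hbb, mov, one_mul, inv_one, mul_one, hA.exp _ hx]

variable [Finite G]

theorem card_fix_ge {b : G} (hb : b ∈ Subgroup.normalizer (A : Set G)) (hbb : b * b = 1) :
    64 ≤ Nat.card (fixA A b) * Nat.card (fixA A b) := by
  have h1 := Subgroup.card_eq_card_quotient_mul_card_subgroup (movHom hA hb).ker
  rw [Nat.card_congr (QuotientGroup.quotientKerEquivRange _).toEquiv, card_movHom_ker hA hb, hA.card] at h1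
  rw [h1]
  refine Nat.mul_le_mul_right _ ?_
  refine Nat.card_le_card_of_injective
    (fun y : (movHom hA hb).range => (⟨y.1.1, ?_⟩ : fixA A b)) fun y z h => Subtype.ext (Subtype.ext (congrArg (fun w : fixA A b => (w : G)) h :))
  obtain ⟨x, hx⟩ := y.2
  rw [← hx]
  exact mov_mem_fix hA hb hbb x.2

omit [Finite G] in
theorem meet {a h : G} (ha : a ∈ A) (ha1 : a ≠ 1) (hh : h * a * h⁻¹ ∈ A) : h ∈ Subgroup.normalizer (A : Set G) := by
  have hne : h * a * h⁻¹ ≠ 1 := fun e => ha1 (conj_eq_one_iff.1 e)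
  obtain ⟨k, hk, hka⟩ := hA.trans _ hh hne _ ha ha1
  have h1 := hA.cen a ha ha1 (k * h) (by
    conv_rhs => rw [← hka]
    group)
  have := Subgroup.mul_mem _ (Subgroup.inv_mem _ hk) h1
  rwa [inv_mul_cancel_left] at this

omit [Finite G] in
theorem beta_one {q : G} (hq : q ∈ A) : β 1 q = 1 := by
  have h := hA.mul 1 A.one_mem 1 A.one_mem q hq
  rw [one_mul] at h
  exact mul_eq_left.1 h.symm

omit [Finite G] in
/-- the elements orthogonal to a subgroup -/
def perp (Q : Subgroup G) (hQ : Q ≤ A) : Subgroup G where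
  carrier := {c | c ∈ A ∧ ∀ q ∈ Q, β c q = 1}
  one_mem' := ⟨A.one_mem, fun q hq => beta_one hA (hQ hq)⟩
  mul_mem' := fun {a b} ha hb => ⟨A.mul_mem ha.1 hb.1, fun q hq => by
    rw [hA.mul a ha.1 b hb.1 q (hQ hq), ha.2 q hq, hb.2 q hq, one_mul]⟩
  inv_mem' := fun {a} ha => by
    rw [inv_eq_of_mul_eq_one_right (hA.exp a ha.1)]
    exact ha

theorem card_perp_le (Q : Subgroup G) (hQ : Q ≤ A) : Nat.card (perp hA Q hQ) * Nat.card Q ≤ 64 := by
  classical
  set K := perp hA Q hQ with hK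
  haveI : Fintype A := Fintype.ofFinite _
  haveI : Fintype K := Fintype.ofFinite _
  haveI : Fintype Q := Fintype.ofFinite _
  have hleft : ∀ r : A, ∃ φ : K →* ℤ, ∀ c : K, φ c = (β (c : G) r : ℤ) := fun r =>
    ⟨(Units.coeHom ℤ).comp (MonoidHom.mk' (fun c : K => β (c : G) r) fun c d => hA.mul _ c.2.1 _ d.2.1 _ r.2),
      fun c => rfl⟩
  have hright : ∀ c : K, ∃ φ : A →* ℤ, ∀ r : A, φ r = (β (c : G) r : ℤ) := fun c =>
    ⟨(Units.coeHom ℤ).comp (MonoidHom.mk' (fun r : A => β (c : G) r) fun r s => by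
      rw [Subgroup.coe_mul, hA.symm _ c.2.1 _ (A.mul_mem r.2 s.2), hA.mul _ r.2 _ s.2 _ c.2.1,
        hA.symm _ r.2 _ c.2.1, hA.symm _ s.2 _ c.2.1]), fun r => rfl⟩
  have hB : ∀ c : K, ∑ r : A, (β (c : G) r : ℤ) = if c = 1 then 64 else 0 := by
    intro c
    obtain ⟨φ, hφ⟩ := hright c
    rw [← Finset.sum_congr rfl fun r _ => hφ r, sum_hom_units, show Fintype.card A = 64 by
      rw [← Nat.card_eq_fintype_card, hA.card]]
    have hiff : φ = 1 ↔ c = 1 := by
      refine ⟨fun e => Subtype.ext (by_contra fun hne => ?_), fun e => MonoidHom.ext fun r => ?_⟩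
      · obtain ⟨d, hd, hcd⟩ := hA.nondeg _ c.2.1 hne
        have h1 := hφ ⟨d, hd⟩
        rw [e, MonoidHom.one_apply] at h1
        exact hcd (Units.ext h1.symm)
      · rw [hφ, e, MonoidHom.one_apply, OneMemClass.coe_one, beta_one hA r.2, Units.val_one]
    by_cases hc : c = 1
    · simp [hc, hiff.2 hc]
    · simp [hc, mt hiff.1 hc]
  have htot : ∑ r : A, ∑ c : K, (β (c : G) r : ℤ) = 64 := by
    rw [Finset.sum_comm, Finset.sum_congr rfl fun c _ => hB c, Finset.sum_ite_eq' Finset.univ (1 : K)]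
    simp
  have hnn : ∀ r : A, 0 ≤ ∑ c : K, (β (c : G) r : ℤ) := by
    intro r
    obtain ⟨φ, hφ⟩ := hleft r
    rw [← Finset.sum_congr rfl fun c _ => hφ c, sum_hom_units]
    split_ifs <;> simp
  let ι : Q ↪ A := ⟨fun q => ⟨q, hQ q.2⟩, fun a b h => Subtype.ext (by simpa using h)⟩
  have hle : (Nat.card K * Nat.card Q : ℤ) ≤ 64 := by
    rw [← htot]
    refine le_trans (le_of_eq ?_) (Finset.sum_le_sum_of_subset_of_nonneg (Finset.subset_univ (Finset.univ.map ι))
      fun r _ _ => hnn r)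
    rw [Finset.sum_map]
    have hone : ∀ q : Q, ∀ c : K, (β (c : G) ((ι q : A) : G) : ℤ) = 1 := fun q c => by
      rw [show β (c : G) ((ι q : A) : G) = 1 from c.2.2 q q.2]; rfl
    simp [hone, Nat.card_eq_fintype_card, mul_comm]
  exact_mod_cast hle

/-- no element outside `A` of its normaliser is a conjugate of an element of `A` -/
theorem closed {g a : G} (ha : a ∈ A) (hb : g * a * g⁻¹ ∈ Subgroup.normalizer (A : Set G)) : g * a * g⁻¹ ∈ A := by
  by_contra hnot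
  set N := Subgroup.normalizer (A : Set G) with hN
  set b := g * a * g⁻¹ with hbdef
  have ha1 : a ≠ 1 := fun e => hnot (by rw [hbdef, e, mul_one, mul_inv_cancel]; exact A.one_mem)
  have hgN : g ∉ N := fun h => hnot (conj_mem hA h ha)
  have hinv : ∀ y ∈ A, g⁻¹ * y * g ∈ A → y = 1 := fun y hy hy' => by_contra fun hy1 => hgN (by
    have h1 := meet hA hy hy1 (h := g⁻¹) (by rwa [inv_inv])
    simpa using N.inv_mem h1)
  have hbb : b * b = 1 := by
    rw [hbdef, show g * a * g⁻¹ * (g * a * g⁻¹) = g * (a * a) * g⁻¹ by group, hA.exp a ha]; group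
  set Q := fixA A b with hQ
  have hQ' : ∀ x ∈ A, g⁻¹ * x * g ∈ N → ∀ p, g⁻¹ * p * g ∈ A → p ∈ N → p * x = x * p := by
    intro x hx hxN p hp hpN
    have h1 : mov p x ∈ A := mov_mem hA hpN hx
    have hxi := inv_eq_of_mul_eq_one_right (hA.exp _ hx)
    have hpp := hA.exp _ hp
    have hpi : p⁻¹ = p := inv_eq_of_mul_eq_one_right (by
      rw [show p * p = g * (g⁻¹ * p * g * (g⁻¹ * p * g)) * g⁻¹ by group, hpp]; group)
    have h2 : g⁻¹ * mov p x * g ∈ A := by
      have : g⁻¹ * mov p x * g = (g⁻¹ * x * g) * (g⁻¹ * p * g) * (g⁻¹ * x * g)⁻¹ * (g⁻¹ * p * g) := by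
        unfold mov
        rw [show (g⁻¹ * x * g) * (g⁻¹ * p * g) * (g⁻¹ * x * g)⁻¹ * (g⁻¹ * p * g) = g⁻¹ * (x * p * x⁻¹ * p) * g by group,
          hxi, hpi]
        group
      rw [this]
      exact A.mul_mem (conj_mem hA hxN hp) hp
    exact (mov_eq_one_iff hA hpN hx).1 (hinv _ h1 h2)
  have hfixp : ∀ x ∈ A, ∀ p, g⁻¹ * p * g ∈ A → p ≠ 1 → p * x = x * p → g⁻¹ * x * g ∈ N := fun x hx p hp hp1 hc =>
    hA.cen _ hp (fun e => hp1 (by simpa [mul_assoc] using congrArg (fun z => g * z * g⁻¹) e)) _ (by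
      rw [show g⁻¹ * x * g * (g⁻¹ * p * g) = g⁻¹ * (x * p) * g by group, ← hc]; group)
  have hbA : g⁻¹ * b * g ∈ A := by rwa [hbdef, show g⁻¹ * (g * a * g⁻¹) * g = a by group]
  have hb1 : b ≠ 1 := fun e => ha1 (conj_eq_one_iff.1 e)
  have hQN : ∀ x ∈ Q, g⁻¹ * x * g ∈ N := fun x hx => hfixp x (mem_fixA.1 hx).1 b hbA hb1 (mem_fixA.1 hx).2
  have hQ8 : 8 ≤ Nat.card Q := by
    have := card_fix_ge hA hb hbb
    rw [← hQ] at this
    nlinarith
  obtain ⟨y, hy, hy1⟩ : ∃ y ∈ Q, y ≠ 1 := by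
    by_contra hcon
    push Not at hcon
    have : Q = ⊥ := (Subgroup.eq_bot_iff_forall Q).2 hcon
    rw [this, Subgroup.card_bot] at hQ8
    omega
  -- the conjugate of `A` meets `N` in at least eight elements
  set P : Subgroup G := A.comap (MulAut.conj g⁻¹).toMonoidHom ⊓ N with hP
  have hmemP : ∀ p, p ∈ P ↔ g⁻¹ * p * g ∈ A ∧ p ∈ N := fun p => by
    rw [hP, Subgroup.mem_inf, Subgroup.mem_comap, MulEquiv.coe_toMonoidHom, MulAut.conj_apply, inv_inv]
  have hP8 : 8 ≤ Nat.card P := by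
    have hy'N := hQN y hy
    have h1 := card_fix_ge hA hy'N (by
      rw [show g⁻¹ * y * g * (g⁻¹ * y * g) = g⁻¹ * (y * y) * g by group, hA.exp y (mem_fixA.1 hy).1]; group)
    refine le_trans (show 8 ≤ Nat.card (fixA A (g⁻¹ * y * g)) by nlinarith) (Nat.card_le_card_of_injective
      (fun z => (⟨g * z.1 * g⁻¹, (hmemP _).2 ⟨by
        rw [show g⁻¹ * (g * z.1 * g⁻¹) * g = z.1 by group]; exact (mem_fixA.1 z.2).1,
        hA.cen y (mem_fixA.1 hy).1 hy1 _ (by
          rw [show g * z.1 * g⁻¹ * y = g * (z.1 * (g⁻¹ * y * g)) * g⁻¹ by group, ← (mem_fixA.1 z.2).2]; group)⟩⟩ : P))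
      fun z w h => Subtype.ext (by simpa using congrArg Subtype.val h))
  have hfix : ∀ p ∈ P, p ≠ 1 → ∀ x ∈ A, (p * x = x * p ↔ x ∈ Q) := fun p hp hp1 x hx =>
    ⟨fun h => mem_fixA.2 ⟨hx, hQ' x hx (hfixp x hx p ((hmemP p).1 hp).1 hp1 h) b hbA hb⟩,
      fun h => hQ' x hx (hQN x h) p ((hmemP p).1 hp).1 ((hmemP p).1 hp).2⟩
  have hQA : Q ≤ A := inf_le_left
  have hsq : ∀ p ∈ P, p * p = 1 := fun p hp => by
    have h := hA.exp _ ((hmemP p).1 hp).1
    rw [show g⁻¹ * p * g * (g⁻¹ * p * g) = g⁻¹ * (p * p) * g by group] at h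
    simpa [mul_assoc] using congrArg (fun z => g * z * g⁻¹) h
  have hmovQ : ∀ p ∈ P, ∀ x ∈ A, mov p x ∈ Q ∧ mov p x ∈ perp hA Q hQA := by
    intro p hp x hx
    have hpN := ((hmemP p).1 hp).2
    by_cases hp1 : p = 1
    · rw [hp1, show mov 1 x = 1 by simp [mov, hA.exp x hx]]
      exact ⟨one_mem _, one_mem _⟩
    have h1 := mem_fixA.1 (mov_mem_fix hA hpN (hsq p hp) hx)
    refine ⟨(hfix p hp hp1 _ h1.1).1 h1.2, h1.1, fun q hq => ?_⟩
    have hpq : p * q * p⁻¹ = q := mul_inv_eq_iff_eq_mul.2 ((hfix p hp hp1 q (hQA hq)).2 hq)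
    rw [mov, hA.mul x hx _ (conj_mem hA hpN hx) q (hQA hq)]
    conv_lhs => arg 2; rw [← hpq]
    rw [hA.inv p hpN x hx q (hQA hq), Int.units_mul_self]
  obtain ⟨x, hx, hxQ⟩ : ∃ x ∈ A, x ∉ Q := by
    by_contra hcon
    push Not at hcon
    exact hnot (hA.inner b hb fun x hx => (mem_fixA.1 (hcon x hx)).2)
  have hPQ : Nat.card P ≤ Nat.card (perp hA Q hQA) := by
    refine Nat.card_le_card_of_injective (fun p => (⟨mov p.1 x, (hmovQ p.1 p.2 x hx).2⟩ : perp hA Q hQA))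
      fun p q h => ?_
    have h' : mov p.1 x = mov q.1 x := congrArg Subtype.val h
    have hpN := ((hmemP _).1 p.2).2
    have hqN := ((hmemP _).1 q.2).2
    set r := p.1 * q.1⁻¹ with hr
    have hrP : r ∈ P := P.mul_mem p.2 (P.inv_mem q.2)
    by_contra hne
    have hr1 : r ≠ 1 := fun e => hne (Subtype.ext (mul_inv_eq_one.1 e))
    refine hxQ ((hfix r hrP hr1 x hx).1 ?_)
    have e : p.1 * x * p.1⁻¹ = q.1 * x * q.1⁻¹ := mul_left_cancel h'
    have hc : q.1⁻¹ * (p.1 * x * p.1⁻¹) * q.1 = x := by rw [e]; group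
    have hpq : q.1⁻¹ * p.1 = r := by
      have h1 : Commute p.1 q.1 := by
        have := comm hA ((hmemP _).1 p.2).1 ((hmemP _).1 q.2).1
        rw [show g⁻¹ * p.1 * g * (g⁻¹ * q.1 * g) = g⁻¹ * (p.1 * q.1) * g by group,
          show g⁻¹ * q.1 * g * (g⁻¹ * p.1 * g) = g⁻¹ * (q.1 * p.1) * g by group] at this
        exact mul_left_cancel (mul_right_cancel this)
      exact h1.inv_right.eq.symm
    rw [← hpq]
    calc q.1⁻¹ * p.1 * x = q.1⁻¹ * (p.1 * x * p.1⁻¹) * q.1 * (q.1⁻¹ * p.1) := by group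
      _ = x * (q.1⁻¹ * p.1) := by rw [hc]
  have hperp := card_perp_le hA Q hQA
  have hPQ' : Nat.card P * Nat.card Q ≤ 64 := le_trans (Nat.mul_le_mul_right _ hPQ) hperp
  have hQ8' : Nat.card Q = 8 := by nlinarith
  obtain ⟨v, hv, hvv⟩ := hA.root g a ha hb hnot (by rw [← hQ]; omega)
  -- fixed points and movement of `b` are equal
  set D := movHom hA hv with hD
  have hD2 : ∀ x : A, ((D (D x) : A) : G) = mov b x := fun x => by
    show mov v (mov v x) = _
    rw [mov_mov hA hv x.2, hvv]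
  set D2 := movHom hA hb with hD2def
  have hrange : D2.range = D2.ker := by
    refine Subgroup.eq_of_le_of_card_ge ?_ ?_
    · rintro _ ⟨x, rfl⟩
      exact Subtype.ext ((mov_eq_one_iff hA hb (mov_mem hA hb x.2)).2 (mem_fixA.1 (mov_mem_fix hA hb hbb x.2)).2)
    · have h1 := Subgroup.card_eq_card_quotient_mul_card_subgroup D2.ker
      rw [Nat.card_congr (QuotientGroup.quotientKerEquivRange _).toEquiv, hA.card] at h1
      have h2 : Nat.card D2.ker = 8 := by rw [hD2def, card_movHom_ker hA hb, ← hQ, hQ8']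
      rw [h2] at h1 ⊢
      omega
  have hker : D.ker ≤ D.range := fun x hx => by
    have h1 : x ∈ D2.ker := by
      refine Subtype.ext ?_
      show mov b x = 1
      rw [← hD2 x, MonoidHom.mem_ker.1 hx, map_one]
      rfl
    rw [← hrange] at h1
    obtain ⟨z, hz⟩ := h1
    exact ⟨D z, Subtype.ext (by rw [hD2, ← hz]; rfl)⟩
  set E := D.comp D.range.subtype with hE
  have hEr : Nat.card E.range = 8 := by
    have : E.range = D2.range := by
      ext z
      constructor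
      · rintro ⟨⟨_, x, rfl⟩, rfl⟩
        exact ⟨x, Subtype.ext (hD2 x).symm⟩
      · rintro ⟨x, rfl⟩
        exact ⟨⟨D x, x, rfl⟩, Subtype.ext (hD2 x)⟩
    rw [this, hrange, hD2def, card_movHom_ker hA hb, ← hQ, hQ8']
  have hEk : Nat.card E.ker = Nat.card D.ker := by
    refine Nat.card_congr
      { toFun := fun x => ⟨x.1.1, x.2⟩
        invFun := fun x => ⟨⟨x.1, hker x.2⟩, x.2⟩
        left_inv := fun x => rfl
        right_inv := fun x => rfl }
  have e1 := Subgroup.card_eq_card_quotient_mul_card_subgroup D.ker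
  rw [Nat.card_congr (QuotientGroup.quotientKerEquivRange D).toEquiv, hA.card] at e1
  have e2 := Subgroup.card_eq_card_quotient_mul_card_subgroup E.ker
  rw [Nat.card_congr (QuotientGroup.quotientKerEquivRange E).toEquiv, hEr, hEk] at e2
  rw [e2] at e1
  have : Nat.card D.ker ≤ 2 := by nlinarith
  interval_cases h : Nat.card D.ker <;> omega

omit [Finite G] hA in
theorem dihedral {u X : G} (hu : u * u = 1) (hX : X * X = 1) (m : ℕ) :
    u * (u * X) ^ m * u = ((u * X) ^ m)⁻¹ ∧ X * (u * X) ^ m * X = ((u * X) ^ m)⁻¹ := by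
  have hui := inv_eq_of_mul_eq_one_right hu
  have hXi := inv_eq_of_mul_eq_one_right hX
  constructor
  · have h : u * (u * X) ^ m * u⁻¹ = (u * (u * X) * u⁻¹) ^ m := conj_pow.symm
    rw [hui, ← mul_assoc u u X, hu, one_mul] at h
    rw [h, ← inv_pow, _root_.mul_inv_rev, hui, hXi]
  · have h : X * (u * X) ^ m * X⁻¹ = (X * (u * X) * X⁻¹) ^ m := conj_pow.symm
    rw [hXi, mul_assoc X (u * X) X, mul_assoc u X X, hX, mul_one] at h
    rw [h, ← inv_pow, _root_.mul_inv_rev, hui, hXi]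

omit [Finite G] hA in
theorem conj_half {u X : G} (hu : u * u = 1) (hX : X * X = 1) (j : ℕ) :
    (u * X) ^ j * X * ((u * X) ^ j)⁻¹ = u * ((u * X) ^ (2 * j))⁻¹ * (u * X) := by
  have h := (dihedral hu hX j).1
  have hcX : u * (u * X) = X := by rw [← mul_assoc, hu, one_mul]
  obtain ⟨c, hc'⟩ : ∃ c, c = u * X := ⟨_, rfl⟩
  rw [← hc'] at h hcX ⊢
  have h' : c ^ j * u = u * (c ^ j)⁻¹ := by rw [← h, ← mul_assoc, ← mul_assoc, hu, one_mul]
  have hc : c * (c ^ j)⁻¹ = (c ^ j)⁻¹ * c := ((Commute.self_pow c j).inv_right).eq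
  conv_lhs => rw [← hcX, ← mul_assoc, h']
  rw [two_mul, pow_add]
  calc u * (c ^ j)⁻¹ * c * (c ^ j)⁻¹ = u * ((c ^ j)⁻¹ * (c * (c ^ j)⁻¹)) := by group
    _ = u * (c ^ j * c ^ j)⁻¹ * c := by rw [hc]; group

omit [Finite G] hA in
theorem conj_half' {u X : G} (hu : u * u = 1) (hX : X * X = 1) (j : ℕ) :
    ((u * X) ^ j)⁻¹ * u * (u * X) ^ j = u * (u * X) ^ (2 * j) := by
  have h := (dihedral hu hX j).1
  rw [← h, two_mul, pow_add]
  calc u * (u * X) ^ j * u * u * (u * X) ^ j = u * (u * X) ^ j * (u * u) * (u * X) ^ j := by group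
    _ = _ := by rw [hu, mul_one, mul_assoc]

omit hA in
/-- in a dihedral group of even order the central involution -/
theorem central {u X : G} {k : ℕ} (hu : u * u = 1) (hX : X * X = 1) (hk : orderOf (u * X) = 2 * k) :
    (u * X) ^ k ≠ 1 ∧ (u * X) ^ k * (u * X) ^ k = 1 ∧ (u * X) ^ k * u = u * (u * X) ^ k ∧
      (u * X) ^ k * X = X * (u * X) ^ k := by
  have hpos := orderOf_pos (u * X)
  have hCC : (u * X) ^ k * (u * X) ^ k = 1 := by rw [← pow_add, ← two_mul, ← hk, pow_orderOf_eq_one]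
  obtain ⟨h1, h2⟩ := dihedral hu hX k
  rw [inv_eq_of_mul_eq_one_right hCC] at h1 h2
  refine ⟨fun e => ?_, hCC, ?_, ?_⟩
  · have := Nat.le_of_dvd (by omega) (orderOf_dvd_of_pow_eq_one e)
    omega
  · conv_lhs => rw [← h1, mul_assoc, hu, mul_one]
  · conv_lhs => rw [← h2, mul_assoc, hX, mul_one]

/-- two conjugates with product of even order commute -/
theorem even {g a u : G} (ha : a ∈ A) (ha1 : a ≠ 1) (hu : u ∈ A) (hu1 : u ≠ 1) {k : ℕ}
    (hk : orderOf (u * (g * a * g⁻¹)) = 2 * k) : g * a * g⁻¹ ∈ A := by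
  set X := g * a * g⁻¹ with hXdef
  have huu := hA.exp u hu
  have hXX : X * X = 1 := by
    rw [hXdef, show g * a * g⁻¹ * (g * a * g⁻¹) = g * (a * a) * g⁻¹ by group, hA.exp a ha]; group
  obtain ⟨hC1, -, hCu, hCX⟩ := central huu hXX hk
  have hCN := hA.cen u hu hu1 _ hCu
  have huC : u * (u * X) ^ k ∈ A := by
    obtain ⟨j, hj⟩ | ⟨j, hj⟩ := Nat.even_or_odd k
    · have e : u * (u * X) ^ k = ((u * X) ^ j)⁻¹ * u * (((u * X) ^ j)⁻¹)⁻¹ := by
        rw [inv_inv, conj_half' huu hXX, hj, two_mul]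
      have h := closed hA (g := ((u * X) ^ j)⁻¹) hu
      rw [← e] at h
      exact h (Subgroup.mul_mem _ (Subgroup.le_normalizer hu) hCN)
    · have e : u * (u * X) ^ k = ((u * X) ^ j)⁻¹ * X * (u * X) ^ j := by
        have h := (dihedral huu hXX j).2
        rw [← h, hj, pow_succ, two_mul, pow_add]
        calc u * ((u * X) ^ j * (u * X) ^ j * (u * X)) = (u * (u * X)) * ((u * X) ^ j * (u * X) ^ j) := by
              rw [← ((Commute.self_pow (u * X) j).mul_right (Commute.self_pow (u * X) j)).eq, mul_assoc u (u * X)]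
          _ = X * ((u * X) ^ j * (u * X) ^ j) := by rw [← mul_assoc u u X, huu, one_mul]
          _ = X * (u * X) ^ j * (X * X) * (u * X) ^ j := by rw [hXX]; group
          _ = X * (u * X) ^ j * X * X * (u * X) ^ j := by group
      have h := closed hA (g := ((u * X) ^ j)⁻¹ * g) ha
      rw [show ((u * X) ^ j)⁻¹ * g * a * (((u * X) ^ j)⁻¹ * g)⁻¹ = ((u * X) ^ j)⁻¹ * X * (u * X) ^ j by
        rw [hXdef]; group, ← e] at h
      exact h (Subgroup.mul_mem _ (Subgroup.le_normalizer hu) hCN)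
  have hCA : (u * X) ^ k ∈ A := by
    have := A.mul_mem hu huC
    rwa [← mul_assoc, huu, one_mul] at this
  exact closed hA ha (hA.cen _ hCA hC1 X hCX.symm)

omit hA in
theorem odd {u X : G} (hu : u * u = 1) (hX : X * X = 1) {j : ℕ} (hj : orderOf (u * X) = 2 * j + 1) :
    (u * X) ^ (j + 1) * X * ((u * X) ^ (j + 1))⁻¹ = u := by
  rw [conj_half hu hX, show 2 * (j + 1) = (2 * j + 1) + 1 by ring, pow_succ (u * X) (2 * j + 1), ← hj,
    pow_orderOf_eq_one, one_mul, inv_mul_cancel_right]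

/-- a conjugate commuting with a suitable involution of `N` is in `A` -/
theorem small {b g a : G} (hb : b ∈ Subgroup.normalizer (A : Set G)) (hbb : b * b = 1) (hw : ∃ x ∈ A, mov b x ≠ 1)
    (hu : ∃ u ∈ A, u ≠ 1 ∧ b * u = u * b ∧ ∀ x ∈ A, mov b x ≠ u) (ha : a ∈ A) (ha1 : a ≠ 1)
    (hc : b * (g * a * g⁻¹) = (g * a * g⁻¹) * b) : g * a * g⁻¹ ∈ A := by
  by_contra hnot
  set X := g * a * g⁻¹ with hXdef
  have hXX : X * X = 1 := by
    rw [hXdef, show g * a * g⁻¹ * (g * a * g⁻¹) = g * (a * a) * g⁻¹ by group, hA.exp a ha]; group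
  obtain ⟨x, hx, hw1⟩ := hw
  obtain ⟨u, hu, hu1, hub, hnu⟩ := hu
  have hwf := mem_fixA.1 (mov_mem_fix hA hb hbb hx)
  have key : ∀ z ∈ A, z ≠ 1 → b * z = z * b → ∃ d, Commute b d ∧ d * X * d⁻¹ = z := by
    intro z hz hz1 hbz
    obtain ⟨k, hk⟩ | ⟨j, hj⟩ := Nat.even_or_odd (orderOf (z * X))
    · exact absurd (even hA (g := g) ha ha1 hz hz1 (k := k) (by rw [hk, two_mul])) hnot
    · exact ⟨(z * X) ^ (j + 1), ((show Commute b z from hbz).mul_right hc).pow_right _, odd (hA.exp z hz) hXX hj⟩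
  obtain ⟨d, hd, hdu⟩ := key u hu hu1 hub
  obtain ⟨e, he, hew⟩ := key _ hwf.1 hw1 hwf.2
  have hh : d * e⁻¹ * mov b x * (d * e⁻¹)⁻¹ = u := by rw [← hew, ← hdu]; group
  have hN : d * e⁻¹ ∈ Subgroup.normalizer (A : Set G) := meet hA hwf.1 hw1 (hh.symm ▸ hu)
  have hbh := (hd.mul_right he.inv_right).eq
  refine hnu _ (conj_mem hA hN hx) ?_
  rw [← hh, mov, mov]
  calc d * e⁻¹ * x * (d * e⁻¹)⁻¹ * (b * (d * e⁻¹ * x * (d * e⁻¹)⁻¹) * b⁻¹) =
      d * e⁻¹ * x * (d * e⁻¹)⁻¹ * ((b * (d * e⁻¹)) * x * (b * (d * e⁻¹))⁻¹) := by group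
    _ = _ := by rw [hbh]; group

/-- **Main theorem.** -/
theorem normal : ∀ g : G, g ∈ Subgroup.normalizer (A : Set G) := by
  obtain ⟨t, ht, htt, hw, hu⟩ := hA.invol
  have htA : t ∉ A := fun h => by
    obtain ⟨x, hx, hne⟩ := hw
    exact hne ((mov_eq_one_iff hA ht hx).2 (comm hA h hx))
  suffices key : ∀ g : G, ∀ a ∈ A, g * a * g⁻¹ ∈ A by
    intro g
    refine Subgroup.mem_normalizer_iff.2 fun a => ⟨key g a, fun h => ?_⟩
    have := key g⁻¹ _ h
    rwa [inv_inv, show g⁻¹ * (g * a * g⁻¹) * g = a by group] at this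
  intro g a ha
  by_cases ha1 : a = 1
  · rw [ha1, mul_one, mul_inv_cancel]; exact A.one_mem
  set X := g * a * g⁻¹ with hXdef
  have hXX : X * X = 1 := by
    rw [hXdef, show g * a * g⁻¹ * (g * a * g⁻¹) = g * (a * a) * g⁻¹ by group, hA.exp a ha]; group
  obtain ⟨k, hk⟩ | ⟨j, hj⟩ := Nat.even_or_odd (orderOf (t * X))
  swap
  · exfalso
    refine htA ?_
    have e : t = (t * X) ^ (j + 1) * g * a * ((t * X) ^ (j + 1) * g)⁻¹ := by
      conv_lhs => rw [← odd htt hXX hj]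
      rw [hXdef]; group
    have h := closed hA (g := (t * X) ^ (j + 1) * g) ha
    rw [← e] at h
    exact h ht
  obtain ⟨hC1, hCC, hCt, hCX⟩ := central htt hXX (k := k) (by rw [hk, two_mul])
  set C := (t * X) ^ k with hCdef
  obtain ⟨i, hi⟩ | ⟨i, hi⟩ := Nat.even_or_odd k
  · -- two conjugates with product of even order
    have hpos := orderOf_pos (t * X)
    have hsq : orderOf (g⁻¹ * (t * X) ^ 2 * g) = 2 * i := by
      have h1 : orderOf ((t * X) ^ 2) = 2 * i := by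
        rw [orderOf_pow' _ two_ne_zero, hk, hi, show Nat.gcd (i + i + (i + i)) 2 = 2 by
          rw [Nat.gcd_eq_right_iff_dvd]; omega]
        omega
      rw [← h1]
      exact orderOf_injective (MulAut.conj g⁻¹).toMonoidHom (MulEquiv.injective _) ((t * X) ^ 2) |>.symm ▸
        (by simp [MulAut.conj_apply])
    have e : g⁻¹ * (t * X) ^ 2 * g = (g⁻¹ * t * g) * a * (g⁻¹ * t * g)⁻¹ * a := by
      have hti := inv_eq_of_mul_eq_one_right htt
      rw [pow_two, show (g⁻¹ * t * g) * a * (g⁻¹ * t * g)⁻¹ * a = g⁻¹ * (t * X * t⁻¹ * X) * g by rw [hXdef]; group, hti]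
      group
    have hne : g⁻¹ * t * g * a * (g⁻¹ * t * g)⁻¹ ≠ a := fun h => by
      rw [h, hA.exp a ha] at e
      rw [e, orderOf_one] at hsq
      omega
    have hZ : g⁻¹ * t * g * a * (g⁻¹ * t * g)⁻¹ ∈ A := by
      set Z := g⁻¹ * t * g * a * (g⁻¹ * t * g)⁻¹ with hZ
      have hZZ : Z * Z = 1 := by
        rw [hZ, show g⁻¹ * t * g * a * (g⁻¹ * t * g)⁻¹ * (g⁻¹ * t * g * a * (g⁻¹ * t * g)⁻¹) =
          g⁻¹ * t * g * (a * a) * (g⁻¹ * t * g)⁻¹ by group, hA.exp a ha]; group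
      refine even hA ha ha1 ha ha1 (k := i) ?_
      rw [← hsq, e, ← hZ, ← orderOf_inv, _root_.mul_inv_rev, inv_eq_of_mul_eq_one_right hZZ,
        inv_eq_of_mul_eq_one_right (hA.exp a ha)]
    have hZa := A.mul_mem hZ ha
    rw [← e] at hZa
    have h4 : (g⁻¹ * (t * X) ^ 2 * g) ^ 2 = 1 := by rw [pow_two]; exact hA.exp _ hZa
    have hle := Nat.le_of_dvd two_pos (orderOf_dvd_of_pow_eq_one h4)
    rw [hsq] at hle
    have hi1 : i = 1 := by omega
    have hC2 : C = g * (g⁻¹ * (t * X) ^ 2 * g) * g⁻¹ := by rw [hCdef, hi, hi1]; group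
    have hCA : C ∈ A := by
      have h := small hA ht htt hw hu hZa (fun e => hC1 (by rw [hC2, e]; group)) (g := g) (by
        rw [← hC2]; exact hCt.symm)
      rwa [← hC2] at h
    exact closed hA ha (hA.cen C hCA hC1 X hCX.symm)
  · -- the other class
    have e : t * C = ((t * X) ^ i)⁻¹ * X * (t * X) ^ i := by
      have h := (dihedral htt hXX i).2
      rw [hCdef, ← h, hi, pow_succ, two_mul, pow_add]
      calc t * ((t * X) ^ i * (t * X) ^ i * (t * X)) = (t * (t * X)) * ((t * X) ^ i * (t * X) ^ i) := by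
            rw [← ((Commute.self_pow (t * X) i).mul_right (Commute.self_pow (t * X) i)).eq, mul_assoc t (t * X)]
        _ = X * ((t * X) ^ i * (t * X) ^ i) := by rw [← mul_assoc t t X, htt, one_mul]
        _ = X * (t * X) ^ i * (X * X) * (t * X) ^ i := by rw [hXX]; group
        _ = X * (t * X) ^ i * X * X * (t * X) ^ i := by group
    have e' : t * C = ((t * X) ^ i)⁻¹ * g * a * (((t * X) ^ i)⁻¹ * g)⁻¹ := by rw [e, hXdef]; group
    have hY : t * C ∈ A := by
      rw [e']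
      refine small hA ht htt hw hu ha ha1 ?_
      rw [← e', ← mul_assoc, mul_assoc t C t, hCt, ← mul_assoc t t C]
    set Y := t * C with hYdef
    have hCY : C = t * Y := by rw [hYdef, ← mul_assoc, htt, one_mul]
    have hCN : C ∈ Subgroup.normalizer (A : Set G) := hCY ▸ Subgroup.mul_mem _ ht (Subgroup.le_normalizer hY)
    have hconj : ∀ x ∈ A, C * x * C⁻¹ = t * x * t⁻¹ := fun x hx => by
      rw [hCY, show t * Y * x * (t * Y)⁻¹ = t * (Y * x * Y⁻¹) * t⁻¹ by group, comm hA hY hx, mul_inv_cancel_right]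
    have hmov : ∀ x ∈ A, mov C x = mov t x := fun x hx => by rw [mov, mov, hconj x hx]
    obtain ⟨x, hx, hx1⟩ := hw
    obtain ⟨u, hu, hu1, hut, hnu⟩ := hu
    exact small hA hCN hCC ⟨x, hx, by rwa [hmov x hx]⟩ ⟨u, hu, hu1,
      mul_inv_eq_iff_eq_mul.1 (by rw [hconj u hu, hut, mul_inv_cancel_right]),
      fun z hz => by rw [hmov z hz]; exact hnu z hz⟩ ha ha1 hCX

end CfsgLib.Perm.Trans.PauliMax.UFusion
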