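import Cfsg.Agent.Lib.Perm.Trans.PauliMax.Unit.Base
import Cfsg.Agent.Lib.Perm.Trans.UnitSU
import Cfsg.Agent.Lib.Perm.Trans.UnitMax

/-!
# The special unitary group does not normalise a group of Pauli matrices

A transvection moves an element of the group by a map of rank two; an element of the group which is anticommuted by
another one differs from the identity on more than that.
-/

set_option autoImplicit false
set_option linter.all false

namespace CfsgLib.Perm.Trans.PauliMax.UP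

open scoped Matrix
open Matrix Cfsg.Geo CfsgLib.Perm.Asch CfsgLib.Perm.Trans CfsgLib.Perm.Trans.PauliMax

variable {F : Type*} [Field F] [Fintype F] {q : ℕ}

/-- an element close to the identity is the identity -/
theorem UPauli.eq_one_of_close {R : Subgroup (GL (Fin 8) F)} {i : F} (hR : UPauli (q := q) R i) {d : GL (Fin 8) F}
    (hd : d ∈ R) {W : Submodule F (Fin 8 → F)} (hW : Module.finrank F W ≤ 2)
    (hdW : ∀ x, (d : Matrix (Fin 8) (Fin 8) F) *ᵥ x - x ∈ W) : d = 1 := by
  classical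
  obtain ⟨x, hx⟩ : ∃ x, x ∉ W := by
    by_contra h
    push Not at h
    rw [show W = ⊤ from eq_top_iff.2 fun x _ => h x, finrank_top, Module.finrank_fintype_fun_eq_card, Fintype.card_fin] at hW
    omega
  by_cases hs : IsScal d
  · obtain ⟨c, hc⟩ := hs
    have h := hdW x
    rw [hc, smul_mulVec, one_mulVec, show c • x - x = (c - 1) • x by rw [sub_smul, one_smul]] at h
    have hc1 : c = 1 := by
      by_contra hne
      exact hx ((W.smul_mem_iff (sub_ne_zero.2 hne)).1 h)
    exact Units.ext (by rw [hc, hc1, one_smul, Units.val_one])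
  · exfalso
    haveI := hR.nonempty
    obtain ⟨s, hsR, hds⟩ := hR.pauli.exists_anti hd hs
    obtain ⟨W', hW'def⟩ : ∃ W', W' = W.map (Matrix.toLin' (s : Matrix (Fin 8) (Fin 8) F)) := ⟨_, rfl⟩
    have hW' : Module.finrank F W' ≤ 2 := hW'def ▸ (Submodule.finrank_map_le _ _).trans hW
    have hneg : ∀ y, -((d : Matrix (Fin 8) (Fin 8) F) *ᵥ y) - y ∈ W' := fun y => by
      refine hW'def ▸ Submodule.mem_map.2 ⟨_, hdW (((s⁻¹ : GL (Fin 8) F) : Matrix (Fin 8) (Fin 8) F) *ᵥ y), ?_⟩
      have hy : (s : Matrix (Fin 8) (Fin 8) F) *ᵥ (((s⁻¹ : GL (Fin 8) F) : Matrix (Fin 8) (Fin 8) F) *ᵥ y) = y := by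
        rw [mulVec_mulVec, Units.mul_inv, one_mulVec]
      rw [Matrix.toLin'_apply, mulVec_sub, hy, mulVec_mulVec, mulVec_mulVec,
        show (s : Matrix (Fin 8) (Fin 8) F) * d = -((d : Matrix (Fin 8) (Fin 8) F) * s) by rw [hds, neg_neg], neg_mul,
        mul_assoc, Units.mul_inv, mul_one, neg_mulVec]
    have htop : ∀ y, y ∈ W ⊔ W' := fun y => by
      have h := (W ⊔ W').add_mem (Submodule.mem_sup_left (hdW y)) (Submodule.mem_sup_right (hneg y))
      rw [show (d : Matrix (Fin 8) (Fin 8) F) *ᵥ y - y + (-((d : Matrix (Fin 8) (Fin 8) F) *ᵥ y) - y) = (-2 : F) • y by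
        module] at h
      exact ((W ⊔ W').smul_mem_iff (neg_ne_zero.2 hR.pauli.two)).1 h
    have h8 := Submodule.finrank_add_le_finrank_add_finrank W W'
    rw [show W ⊔ W' = ⊤ from eq_top_iff.2 fun y _ => htop y, finrank_top, Module.finrank_fintype_fun_eq_card, Fintype.card_fin] at h8
    omega

/-- the special unitary group moves the group -/
theorem UPauli.not_le_normalizer (hF : Fintype.card F = q ^ 2) {R : Subgroup (GL (Fin 8) F)} {i : F}
    (hR : UPauli (q := q) R i) :
    ¬ Cfsg.GU 8 F q ⊓ specialLinear (Fin 8) F ≤ Subgroup.normalizer (R : Set (GL (Fin 8) F)) := by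
  classical
  intro hle
  obtain ⟨C⟩ := CfsgLib.Perm.Trans.Unit.ctx_of_card hF
  have hf := CfsgLib.Perm.Trans.Unit.isUnitary_hermForm C (n := 8)
  haveI := hR.nonempty
  -- every element of the group is central in the special unitary group
  have hcomm : ∀ r ∈ R, Cfsg.GU 8 F q ⊓ specialLinear (Fin 8) F ≤ Subgroup.centralizer {r} := by
    intro r hr
    refine CfsgLib.Perm.Trans.Unit.isoU_inf_SL_le (f := Cfsg.hermForm 8 F q) hf (fun u _ huu c hc => ?_)
      (Or.inl (by rw [Fintype.card_fin]; norm_num))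
    refine ⟨utv_orth hf huu c, ?_⟩
    obtain ⟨T, hT⟩ : ∃ T, T = tv u (c • hv hf u) (utv_orth hf huu c) :=
      ⟨_, rfl⟩
    rw [← hT]
    have hTS : T ∈ Cfsg.GU 8 F q ⊓ specialLinear (Fin 8) F :=
      hT ▸ ⟨CfsgLib.Perm.Trans.Unit.mem_isoU.2 (utv_isometry hf u huu hc _), tv_mem_SL _ _ _⟩
    have hd : T * r * T⁻¹ * r⁻¹ ∈ R := mul_mem ((Subgroup.mem_normalizer_iff.1 (hle hTS) r).1 hr) (inv_mem hr)
    have hTx : ∀ x, ∃ a : F, (T : Matrix (Fin 8) (Fin 8) F) *ᵥ x = x + a • u := fun x =>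
      ⟨_, by rw [hT, tv_mulVec]⟩
    have h1 : T * r * T⁻¹ * r⁻¹ = 1 := by
      refine hR.eq_one_of_close hd (W := Submodule.span F {u, (r : Matrix (Fin 8) (Fin 8) F) *ᵥ u}) ?_ fun x => ?_
      · refine (finrank_span_le_card _).trans ?_
        rw [Set.toFinset_insert, Set.toFinset_singleton]
        exact Finset.card_le_two
      obtain ⟨y, hy⟩ : ∃ y, y = ((r⁻¹ : GL (Fin 8) F) : Matrix (Fin 8) (Fin 8) F) *ᵥ x := ⟨_, rfl⟩
      obtain ⟨z, hz⟩ : ∃ z, z = ((T⁻¹ : GL (Fin 8) F) : Matrix (Fin 8) (Fin 8) F) *ᵥ y := ⟨_, rfl⟩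
      obtain ⟨a, ha⟩ := hTx z
      have hzy : z = y - a • u := by
        have e : (T : Matrix (Fin 8) (Fin 8) F) *ᵥ z = y := by rw [hz, mulVec_mulVec, Units.mul_inv, one_mulVec]
        rw [← e, ha, add_sub_cancel_right]
      have hry : (r : Matrix (Fin 8) (Fin 8) F) *ᵥ y = x := by rw [hy, mulVec_mulVec, Units.mul_inv, one_mulVec]
      obtain ⟨b, hb⟩ := hTx ((r : Matrix (Fin 8) (Fin 8) F) *ᵥ z)
      rw [Units.val_mul, Units.val_mul, Units.val_mul, ← mulVec_mulVec, ← hy, ← mulVec_mulVec, ← hz, ← mulVec_mulVec,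
        hb, hzy, mulVec_sub, mulVec_smul, hry]
      refine Submodule.mem_span_pair.2 ⟨b, -a, ?_⟩
      module
    rw [Subgroup.mem_centralizer_singleton_iff]
    have h2 := congrArg (fun g => g * (r * T)) h1
    simpa [mul_assoc] using h2
  obtain ⟨v, hv⟩ : ∃ v, v ∈ R ∧ ¬ IsScal v := by
    by_contra hcon
    push Not at hcon
    have hsp : Submodule.span F (matrixSet R) ≤ Submodule.span F {(1 : Matrix (Fin 8) (Fin 8) F)} :=
      Submodule.span_le.2 (by
        rintro _ ⟨g, hg, rfl⟩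
        obtain ⟨c, hc⟩ := hcon g hg
        exact Submodule.mem_span_singleton.2 ⟨c, hc.symm⟩)
    rw [hR.pauli.span] at hsp
    have := Submodule.finrank_mono hsp
    rw [finrank_top, finrank_span_singleton (one_ne_zero), Module.finrank_matrix, Module.finrank_self, mul_one,
      Fintype.card_fin] at this
    norm_num at this
  obtain ⟨s, hs, hvs⟩ := hR.pauli.exists_anti hv.1 hv.2
  have h := Subgroup.mem_centralizer_singleton_iff.1 (hcomm v hv.1 ⟨hR.iso hs, Units.ext (by
    simpa using hR.mem_det hs (k := 2) (by norm_num))⟩)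
  have h' : (v : Matrix (Fin 8) (Fin 8) F) * s = (s : Matrix (Fin 8) (Fin 8) F) * v := by
    rw [← Units.val_mul, ← Units.val_mul, h]
  rw [h'] at hvs
  have h0 : (2 : F) • ((s * v : GL (Fin 8) F) : Matrix (Fin 8) (Fin 8) F) = 0 := by
    rw [Units.val_mul, two_smul]
    nth_rw 1 [hvs]
    exact neg_add_cancel _
  exact (s * v).ne_zero ((smul_eq_zero.1 h0).resolve_left hR.pauli.two)

end CfsgLib.Perm.Trans.PauliMax.UP
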