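import Cfsg.Agent.Lib.Perm.Trans.PauliMax.Unit.Four
import Cfsg.Agent.Lib.Perm.Trans.PauliMax.Unit.Fusion
import Cfsg.Agent.Lib.Perm.Trans.PauliMax.Unit.Data
import Cfsg.Agent.Lib.Perm.Trans.PauliMax.Unit.Proper
import Cfsg.Agent.Lib.Perm.Trans.PauliMax.Core

/-!
# Normalisers of Pauli groups are maximal in eight-dimensional special unitary groups

Given that the centralisers of involutions of the group stay in its normaliser, the fusion theorem applies to the
quotient of an overgroup by its scalars.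
-/

set_option autoImplicit false
set_option linter.all false

namespace CfsgLib.Perm.Trans.PauliMax.UP

open scoped Matrix
open Matrix Cfsg.Geo CfsgLib.Perm.Asch CfsgLib.Perm.Trans.PauliMax

variable {F : Type*} [Field F] {q : ℕ} {R : Subgroup (GL (Fin 8) F)} {i : F}

/-! ### Commutation signs -/

/-- `1` for commuting elements, `-1` otherwise -/
noncomputable def sgn (x y : GL (Fin 8) F) : ℤˣ := by classical exact if x * y = y * x then 1 else -1

theorem sgn_one_iff {x y : GL (Fin 8) F} : sgn x y = 1 ↔ x * y = y * x := by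
  unfold sgn
  split_ifs with h <;> simp [h]

theorem sgn_neg_iff {x y : GL (Fin 8) F} : sgn x y = -1 ↔ x * y ≠ y * x := by
  unfold sgn
  split_ifs with h <;> simp [h]

theorem sgn_congr {x y x' y' : GL (Fin 8) F} (e : x * y = y * x ↔ x' * y' = y' * x') : sgn x y = sgn x' y' := by
  by_cases h : x * y = y * x
  · rw [sgn_one_iff.2 h, sgn_one_iff.2 (e.1 h)]
  · rw [sgn_neg_iff.2 h, sgn_neg_iff.2 fun h' => h (e.2 h')]

theorem sgn_symm (x y : GL (Fin 8) F) : sgn x y = sgn y x := sgn_congr eq_comm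

theorem sgn_scal {z : GL (Fin 8) F} (hz : IsScal z) (x y : GL (Fin 8) F) : sgn (x * z) y = sgn x y := by
  have e : x * z * y = y * (x * z) ↔ x * y = y * x := by
    rw [← mul_assoc y x z, mul_assoc x z y, hz.comm y, ← mul_assoc]
    exact mul_left_inj z
  exact sgn_congr e

theorem sgn_conj (g x y : GL (Fin 8) F) : sgn (g * x * g⁻¹) (g * y * g⁻¹) = sgn x y := by
  have e : g * x * g⁻¹ * (g * y * g⁻¹) = g * y * g⁻¹ * (g * x * g⁻¹) ↔ x * y = y * x := by
    rw [show g * x * g⁻¹ * (g * y * g⁻¹) = g * (x * y) * g⁻¹ by group,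
      show g * y * g⁻¹ * (g * x * g⁻¹) = g * (y * x) * g⁻¹ by group, mul_left_inj, mul_right_inj]
  exact sgn_congr e

theorem neg_comm_ne (h2 : (2 : F) ≠ 0) {x y : GL (Fin 8) F}
    (h : (x : Matrix (Fin 8) (Fin 8) F) * y = -((y : Matrix (Fin 8) (Fin 8) F) * x)) : x * y ≠ y * x := fun e => by
  rw [← Units.val_mul, ← Units.val_mul, e] at h
  have h0 : (2 : F) • ((y * x : GL (Fin 8) F) : Matrix (Fin 8) (Fin 8) F) = 0 := by
    rw [two_smul]
    nth_rw 1 [h]
    exact neg_add_cancel _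
  exact (y * x).ne_zero ((smul_eq_zero.1 h0).resolve_left h2)

theorem UPauli.sign' (hR : UPauli (q := q) R i) {x y : GL (Fin 8) F} (hx : x ∈ R) (hy : y ∈ R) :
    sgn x y = 1 ∧ (x : Matrix (Fin 8) (Fin 8) F) * y = (y : Matrix (Fin 8) (Fin 8) F) * x ∨
      sgn x y = -1 ∧ (x : Matrix (Fin 8) (Fin 8) F) * y = -((y : Matrix (Fin 8) (Fin 8) F) * x) := by
  rcases hR.pauli.sign x hx y hy with h | h
  · exact Or.inl ⟨sgn_one_iff.2 (Units.ext (by rw [Units.val_mul, Units.val_mul, h])), h⟩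
  · exact Or.inr ⟨sgn_neg_iff.2 (neg_comm_ne hR.pauli.two h), h⟩

theorem UPauli.sgn_mul (hR : UPauli (q := q) R i) {x y z : GL (Fin 8) F} (hx : x ∈ R) (hy : y ∈ R) (hz : z ∈ R) :
    sgn (x * y) z = sgn x z * sgn y z := by
  rcases hR.sign' hx hz with ⟨e1, h1⟩ | ⟨e1, h1⟩ <;> rcases hR.sign' hy hz with ⟨e2, h2⟩ | ⟨e2, h2⟩ <;> rw [e1, e2]
  · rw [one_mul]
    refine sgn_one_iff.2 (Units.ext ?_)
    simp only [Units.val_mul]
    rw [mul_assoc, h2, ← mul_assoc, h1, mul_assoc]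
  · rw [one_mul]
    refine sgn_neg_iff.2 (neg_comm_ne hR.pauli.two ?_)
    simp only [Units.val_mul]
    rw [mul_assoc, h2, mul_neg, ← mul_assoc, h1, mul_assoc]
  · rw [mul_one]
    refine sgn_neg_iff.2 (neg_comm_ne hR.pauli.two ?_)
    simp only [Units.val_mul]
    rw [mul_assoc, h2, ← mul_assoc, h1, neg_mul, mul_assoc]
  · rw [Int.units_mul_self]
    refine sgn_one_iff.2 (Units.ext ?_)
    simp only [Units.val_mul]
    rw [mul_assoc, h2, mul_neg, ← mul_assoc, h1, neg_mul, neg_neg, mul_assoc]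

/-! ### Equality up to scalars -/

theorem Sim.symm {x y : GL (Fin 8) F} : Sim x y → Sim y x := by
  rintro ⟨c, h⟩
  have hc : c ≠ 0 := fun e => x.ne_zero (by rw [h, e, zero_smul])
  exact ⟨c⁻¹, by rw [h, smul_smul, inv_mul_cancel₀ hc, one_smul]⟩

theorem sim_iff {x y : GL (Fin 8) F} : Sim x y ↔ IsScal (x⁻¹ * y) := by
  constructor
  · intro h
    obtain ⟨c, hc⟩ := h.symm
    exact ⟨c, by rw [Units.val_mul, hc, mul_smul_comm, Units.inv_mul]⟩
  · rintro ⟨c, hc⟩
    refine Sim.symm ⟨c, ?_⟩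
    rw [show y = x * (x⁻¹ * y) by group, Units.val_mul, hc, mul_smul_comm, mul_one]

theorem Sim.mul_left {x y : GL (Fin 8) F} (g : GL (Fin 8) F) : Sim x y → Sim (g * x) (g * y) := by
  rintro ⟨c, h⟩
  exact ⟨c, by simp only [Units.val_mul, h, mul_smul_comm]⟩

theorem sim_conj_pm {g r : GL (Fin 8) F} (hR : UPauli (q := q) R i) (hr : r ∈ R) (h : Sim (g * r * g⁻¹) r) :
    g * r = r * g ∨ (g : Matrix (Fin 8) (Fin 8) F) * r = -((r : Matrix (Fin 8) (Fin 8) F) * g) := by
  haveI := hR.nonempty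
  obtain ⟨c, hc⟩ := h
  have hgr : (g : Matrix (Fin 8) (Fin 8) F) * r = c • ((r : Matrix (Fin 8) (Fin 8) F) * g) := by
    have e := congrArg (fun X => X * (g : Matrix (Fin 8) (Fin 8) F)) hc
    simp only [Units.val_mul, smul_mul_assoc] at e
    rwa [mul_assoc _ _ (g : Matrix (Fin 8) (Fin 8) F), Units.inv_mul, mul_one] at e
  have hne := (r * r * g).ne_zero
  simp only [Units.val_mul] at hne
  have h2 : (c * c - 1) • ((r : Matrix (Fin 8) (Fin 8) F) * r * g) = 0 := by
    have e : (g : Matrix (Fin 8) (Fin 8) F) * (r * r) = (c * c) • ((r : Matrix (Fin 8) (Fin 8) F) * r * g) := by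
      rw [← mul_assoc, hgr, smul_mul_assoc, mul_assoc _ (g : Matrix (Fin 8) (Fin 8) F), hgr, mul_smul_comm, smul_smul,
        mul_assoc]
    rw [sub_smul, one_smul, ← e]
    rcases hR.pauli.square r hr with h | h <;> rw [h] <;> simp
  rcases mul_self_eq_one_iff.1 (sub_eq_zero.1 ((smul_eq_zero.1 h2).resolve_right hne)) with e | e
  · exact Or.inl (Units.ext (by rw [Units.val_mul, Units.val_mul, hgr, e, one_smul]))
  · exact Or.inr (by rw [hgr, e, neg_one_smul])

theorem UPauli.sim_mem (hR : UPauli (q := q) R i) {g r : GL (Fin 8) F} (hr : r ∈ R)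
    (hg : (g : Matrix (Fin 8) (Fin 8) F) * g = 1 ∨ (g : Matrix (Fin 8) (Fin 8) F) * g = -1) (h : Sim g r) : g ∈ R := by
  haveI := hR.nonempty
  obtain ⟨c, hc⟩ := h
  have h4 : c ^ 4 = 1 := by
    rcases hg with hg | hg <;> rcases hR.pauli.square r hr with hr' | hr' <;>
    · rw [hc, smul_mul_assoc, mul_smul_comm, smul_smul, hr'] at hg
      have e := congrFun (congrFun hg (Classical.arbitrary _)) (Classical.arbitrary _)
      simp at e
      first
      | linear_combination (c * c + 1) * e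
      | linear_combination -(c * c + 1) * e
      | linear_combination (c * c - 1) * e
      | linear_combination -(c * c - 1) * e
  have hmem : g * r⁻¹ ∈ R := hR.scal_mem (c := c) (by rw [Units.val_mul, hc, smul_mul_assoc, Units.mul_inv]) h4
  have := R.mul_mem hmem hr
  rwa [inv_mul_cancel_right] at this

theorem UPauli.conj_sq (hR : UPauli (q := q) R i) (g : GL (Fin 8) F) {r : GL (Fin 8) F} (hr : r ∈ R) :
    ((g * r * g⁻¹ : GL (Fin 8) F) : Matrix (Fin 8) (Fin 8) F) * (g * r * g⁻¹ : GL (Fin 8) F) = 1 ∨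
      ((g * r * g⁻¹ : GL (Fin 8) F) : Matrix (Fin 8) (Fin 8) F) * (g * r * g⁻¹ : GL (Fin 8) F) = -1 := by
  rw [← Units.val_mul, show g * r * g⁻¹ * (g * r * g⁻¹) = g * (r * r) * g⁻¹ by group, Units.val_mul, Units.val_mul,
    Units.val_mul]
  rcases hR.pauli.square r hr with h | h <;> rw [h] <;> simp

theorem sp_conj {X Y U : Matrix (Fin 8) (Fin 8) F} (h : X * Y = 1) (a b : F) :
    X * sp U a b * Y = sp (X * U * Y) a b := by
  simp only [sp, mul_add, add_mul, mul_smul_comm, smul_mul_assoc, mul_one, h]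

variable [Fintype F]

/-! ### The overgroup -/

/-- an overgroup in which involution centralisers stay in the normaliser is in the normaliser -/
theorem UPauli.le_normalizer_of_cen (hF : Fintype.card F = q ^ 2) (hR : UPauli (q := q) R i)
    {M : Subgroup (GL (Fin 8) F)}
    (hN : Subgroup.normalizer (R : Set (GL (Fin 8) F)) ⊓ (Cfsg.GU 8 F q ⊓ specialLinear (Fin 8) F) ≤ M)
    (hM : M ≤ Cfsg.GU 8 F q ⊓ specialLinear (Fin 8) F)
    (hcen : ∀ u, Invo R u → ∀ h ∈ M, h * u = u * h → h ∈ Subgroup.normalizer (R : Set (GL (Fin 8) F))) :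
    M ≤ Subgroup.normalizer (R : Set (GL (Fin 8) F)) := by
  classical
  haveI := hR.nonempty
  haveI : Finite (Matrix (Fin 8) (Fin 8) F) := inferInstanceAs (Finite (Fin 8 → Fin 8 → F))
  haveI : Finite (GL (Fin 8) F) := Finite.of_injective _ Units.val_injective
  obtain ⟨C⟩ := CfsgLib.Perm.Trans.Unit.ctx_of_card hF
  have hP := hR.pauli
  have hk8 : (8 : ℕ) = 2 * (2 * 2) := by norm_num
  have hRM : R ≤ M := fun r hr => hN ⟨Subgroup.le_normalizer hr, hR.iso hr, Units.ext (by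
    simpa using hR.mem_det hr hk8)⟩
  have hGM : ∀ {u : GL (Fin 8) F} (hu : Invo R u), hu.G hP ∈ M := fun {u} hu =>
    hN ⟨hu.G_mem_normalizer hP, hR.G_iso C hu, Units.ext (by
      have hd : (hu.G hP : Matrix (Fin 8) (Fin 8) F).det = 1 := by
        rw [hR.G_det hu (k := 4) (by norm_num)]
        linear_combination (i * i - 1) * hP.ii
      simpa using hd)⟩
  haveI hZn : ((scalars (Fin 8) F).subgroupOf M).Normal := ⟨fun a ha g => by
    rw [Subgroup.mem_subgroupOf] at ha ⊢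
    rw [Subgroup.coe_mul, Subgroup.coe_mul, Subgroup.coe_inv, ← (isScal_iff.2 ha).comm, mul_inv_cancel_right]
    exact ha⟩
  let π : M →* M ⧸ (scalars (Fin 8) F).subgroupOf M := QuotientGroup.mk' _
  have hπ : ∀ x y : M, π x = π y ↔ Sim (x : GL (Fin 8) F) y := fun x y => by
    rw [sim_iff, isScal_iff]
    exact QuotientGroup.eq
  have hπ1 : ∀ x : M, π x = 1 ↔ IsScal (x : GL (Fin 8) F) := fun x => by
    rw [← map_one π, eq_comm, hπ, sim_iff]
    simp
  let φ : R →* M ⧸ (scalars (Fin 8) F).subgroupOf M := π.comp (Subgroup.inclusion hRM)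
  let A := φ.range
  have hmemA : ∀ x : M, π x ∈ A ↔ ∃ r ∈ R, Sim (x : GL (Fin 8) F) r := fun x => by
    constructor
    · rintro ⟨r, hr⟩
      exact ⟨r, r.2, (hπ x ⟨r, hRM r.2⟩).1 hr.symm⟩
    · rintro ⟨r, hr, h⟩
      exact ⟨⟨r, hr⟩, ((hπ x ⟨r, hRM hr⟩).2 h).symm⟩
  have hlift : ∀ a ∈ A, ∃ r : M, (r : GL (Fin 8) F) ∈ R ∧ π r = a := by
    rintro _ ⟨r, rfl⟩
    exact ⟨⟨r, hRM r.2⟩, r.2, rfl⟩
  have hliftI : ∀ a ∈ A, a ≠ 1 → ∃ v : M, Invo R (v : GL (Fin 8) F) ∧ π v = a := by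
    intro a ha ha1
    obtain ⟨r, hr, rfl⟩ := hlift a ha
    obtain ⟨v, c, hv, hc0, he⟩ := hP.exists_invo hr fun h => ha1 ((hπ1 r).2 h)
    exact ⟨⟨v, hRM hv.mem⟩, hv, ((hπ r ⟨v, hRM hv.mem⟩).2 ⟨c, he⟩).symm⟩
  have hπA : ∀ r : M, (r : GL (Fin 8) F) ∈ R → π r ∈ A := fun r hr => (hmemA r).2 ⟨r, hr, Sim.refl _⟩
  -- normalisers
  have hnorm : ∀ x : M, π x ∈ Subgroup.normalizer (A : Set _) ↔
      (x : GL (Fin 8) F) ∈ Subgroup.normalizer (R : Set (GL (Fin 8) F)) := fun x => by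
    constructor
    · intro hx
      refine mem_normalizer_of_conj_mem fun r hr => ?_
      have h := (Subgroup.mem_normalizer_iff.1 hx _).1 (hπA ⟨r, hRM hr⟩ hr)
      rw [← map_inv, ← map_mul, ← map_mul, hmemA] at h
      obtain ⟨s, hs, h⟩ := h
      exact hR.sim_mem hs (hR.conj_sq _ hr) h
    · intro hx
      refine mem_normalizer_of_conj_mem fun a ha => ?_
      obtain ⟨r, hr, rfl⟩ := hlift a ha
      rw [← map_inv, ← map_mul, ← map_mul]
      exact hπA _ ((Subgroup.mem_normalizer_iff.1 hx _).1 hr)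
  -- the signs
  let β : (M ⧸ (scalars (Fin 8) F).subgroupOf M) → (M ⧸ (scalars (Fin 8) F).subgroupOf M) → ℤˣ :=
    fun a b => sgn ((a.out : M) : GL (Fin 8) F) ((b.out : M) : GL (Fin 8) F)
  have hβ : ∀ x y : M, β (π x) (π y) = sgn (x : GL (Fin 8) F) y := fun x y => by
    obtain ⟨z, hz⟩ := QuotientGroup.mk_out_eq_mul ((scalars (Fin 8) F).subgroupOf M) x
    obtain ⟨w, hw⟩ := QuotientGroup.mk_out_eq_mul ((scalars (Fin 8) F).subgroupOf M) y
    show sgn (((QuotientGroup.mk x : M ⧸ _).out : M) : GL (Fin 8) F) (((QuotientGroup.mk y : M ⧸ _).out : M) : GL (Fin 8) F) = _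
    have hzs : IsScal (((z : M) : GL (Fin 8) F)) := isScal_iff.2 z.2
    have hws : IsScal (((w : M) : GL (Fin 8) F)) := isScal_iff.2 w.2
    rw [hz, hw, Subgroup.coe_mul, Subgroup.coe_mul, sgn_scal hzs, sgn_symm, sgn_scal hws, sgn_symm]
  have hA : UFusion.Hyp A β := by
    refine ⟨?_, ?_, ?_, ?_, ?_, ?_, ?_, ?_, ?_, ?_, ?_⟩
    · intro a ha
      obtain ⟨r, hr, rfl⟩ := hlift a ha
      rw [← map_mul, hπ1, Subgroup.coe_mul]
      rcases hP.square r hr with h | h
      · exact ⟨1, by rw [Units.val_mul, h, one_smul]⟩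
      · exact ⟨-1, by rw [Units.val_mul, h, neg_one_smul]⟩
    · have hker : φ.ker = Subgroup.center R := Subgroup.ext fun r => by
        rw [hR.center_mem, MonoidHom.mem_ker]
        exact hπ1 ⟨r, hRM r.2⟩
      have h1 := Subgroup.card_eq_card_quotient_mul_card_subgroup φ.ker
      rw [Nat.card_congr (QuotientGroup.quotientKerEquivRange φ).toEquiv, hR.card, hker, hR.card_center] at h1
      show Nat.card φ.range = 64
      omega
    · intro a ha ha1 g hg
      obtain ⟨v, hv, rfl⟩ := hliftI a ha ha1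
      obtain ⟨x, rfl⟩ := QuotientGroup.mk'_surjective _ g
      change π x ∈ Subgroup.normalizer (A : Set _)
      have hs : Sim ((x : GL (Fin 8) F) * (v : GL (Fin 8) F) * (x : GL (Fin 8) F)⁻¹) (v : GL (Fin 8) F) :=
        (hπ (x * v * x⁻¹) v).1 (by rw [map_mul, map_mul, map_inv]; exact mul_inv_eq_iff_eq_mul.2 hg)
      rw [hnorm]
      rcases sim_conj_pm hR hv.mem hs with h | h
      · exact hcen _ hv x x.2 h
      · obtain ⟨w, hw, hvw⟩ := hv.exists_anti hP
        have hwR := (Subgroup.le_normalizer hw.mem : w ∈ Subgroup.normalizer (R : Set (GL (Fin 8) F)))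
        have hc : w * (x : GL (Fin 8) F) * v = v * (w * x) := Units.ext (by
          simp only [Units.val_mul]
          rw [mul_assoc, h, mul_neg, ← mul_assoc, ← mul_assoc, hvw, neg_mul])
        have := Subgroup.mul_mem _ (Subgroup.inv_mem _ hwR)
          (hcen _ hv _ (M.mul_mem (hRM hw.mem) x.2) hc)
        rwa [inv_mul_cancel_left] at this
    · intro g hg hfix
      obtain ⟨x, rfl⟩ := QuotientGroup.mk'_surjective _ g
      change π x ∈ A
      obtain ⟨r, hr, c, hc⟩ := hR.mem_of_fix (x : GL (Fin 8) F) fun s hs => by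
        have hsim : Sim ((x : GL (Fin 8) F) * s * (x : GL (Fin 8) F)⁻¹) s :=
          (hπ (x * ⟨s, hRM hs⟩ * x⁻¹) ⟨s, hRM hs⟩).1 (by
            rw [map_mul, map_mul, map_inv]; exact mul_inv_eq_iff_eq_mul.2 (hfix _ (hπA ⟨s, hRM hs⟩ hs)))
        rcases sim_conj_pm hR hs hsim with h | h
        · exact Or.inl (by rw [← Units.val_mul, ← Units.val_mul, h])
        · exact Or.inr (by rw [h, neg_neg])
      exact (hmemA x).2 ⟨r, hr, c, hc⟩
    · intro a ha ha1 b hb hb1
      obtain ⟨u, hu, rfl⟩ := hliftI a ha ha1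
      obtain ⟨v, hv, rfl⟩ := hliftI b hb hb1
      obtain ⟨g, hgU, hgN, hgd, hgs⟩ := hR.transitive C hk8 hu hv
      have hgM : g ∈ M := hN ⟨hgN, hgU, Units.ext (by simpa using hgd)⟩
      refine ⟨π ⟨g, hgM⟩, (hnorm _).2 hgN, ?_⟩
      rw [← map_inv, ← map_mul, ← map_mul]
      exact (hπ _ _).2 hgs
    · intro a ha b hb c hc
      obtain ⟨x, hx, rfl⟩ := hlift a ha
      obtain ⟨y, hy, rfl⟩ := hlift b hb
      obtain ⟨z, hz, rfl⟩ := hlift c hc
      rw [← map_mul, hβ, hβ, hβ, Subgroup.coe_mul]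
      exact hR.sgn_mul hx hy hz
    · intro a _ b _
      exact sgn_symm _ _
    · intro a ha ha1
      obtain ⟨v, hv, rfl⟩ := hliftI a ha ha1
      obtain ⟨w, hw, hvw⟩ := hv.exists_anti hP
      refine ⟨_, hπA ⟨w, hRM hw.mem⟩ hw.mem, ?_⟩
      rw [hβ, show sgn (v : GL (Fin 8) F) w = -1 from sgn_neg_iff.2 (neg_comm_ne hP.two hvw)]
      decide
    · intro k _ a _ b _
      obtain ⟨g, rfl⟩ := QuotientGroup.mk'_surjective _ k
      obtain ⟨x, rfl⟩ := QuotientGroup.mk'_surjective _ a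
      obtain ⟨y, rfl⟩ := QuotientGroup.mk'_surjective _ b
      change β (π g * π x * (π g)⁻¹) (π g * π y * (π g)⁻¹) = β (π x) (π y)
      rw [← map_inv, ← map_mul, ← map_mul, ← map_mul, ← map_mul, hβ, hβ]
      exact sgn_conj _ _ _
    · intro g a ha hbN hbA h8
      have ha1 : a ≠ 1 := fun h => hbA (by rw [h, mul_one, mul_inv_cancel]; exact A.one_mem)
      obtain ⟨v, hv, rfl⟩ := hliftI a ha ha1
      obtain ⟨x, rfl⟩ := QuotientGroup.mk'_surjective _ g
      change π x * π v * (π x)⁻¹ ∈ _ at hbN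
      change 8 ≤ Nat.card (UFusion.fixA A (π x * π v * (π x)⁻¹)) at h8
      show ∃ s ∈ Subgroup.normalizer (A : Set _), s * s = π x * π v * (π x)⁻¹
      rw [← map_inv, ← map_mul, ← map_mul] at hbN h8 ⊢
      obtain ⟨w, hw⟩ : ∃ w, w = x * v * x⁻¹ := ⟨_, rfl⟩
      rw [← hw] at hbN h8 ⊢
      -- an involution commuting with `w`
      have hsign : ∀ y ∈ UFusion.fixA A (π w), ∃ r : M, (r : GL (Fin 8) F) ∈ R ∧ π r = y ∧
          ((w : GL (Fin 8) F) * r = r * w ∨
            ((w : GL (Fin 8) F) : Matrix (Fin 8) (Fin 8) F) * (r : GL (Fin 8) F) = -(((r : GL (Fin 8) F) : Matrix (Fin 8) (Fin 8) F) * (w : GL (Fin 8) F))) := by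
        intro y hy
        obtain ⟨hyA, hyc⟩ := UFusion.mem_fixA.1 hy
        obtain ⟨r, hr, rfl⟩ := hlift y hyA
        exact ⟨r, hr, rfl, sim_conj_pm hR hr ((hπ (w * r * w⁻¹) r).1 (by
          rw [map_mul, map_mul, map_inv]; exact mul_inv_eq_iff_eq_mul.2 hyc))⟩
      obtain ⟨r, hr, hrns, hrc⟩ : ∃ r : M, (r : GL (Fin 8) F) ∈ R ∧ ¬ IsScal (r : GL (Fin 8) F) ∧
          (w : GL (Fin 8) F) * r = r * w := by
        haveI : Fintype (UFusion.fixA A (π w)) := Fintype.ofFinite _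
        rw [Nat.card_eq_fintype_card] at h8
        obtain ⟨⟨y₁, hy₁⟩, -, h₁⟩ := Finset.exists_mem_notMem_of_card_lt_card (s := {(1 : UFusion.fixA A (π w))})
          (t := Finset.univ) (by rw [Finset.card_singleton, Finset.card_univ]; omega)
        obtain ⟨⟨y₂, hy₂⟩, -, h₂⟩ := Finset.exists_mem_notMem_of_card_lt_card
          (s := {(1 : UFusion.fixA A (π w)), ⟨y₁, hy₁⟩}) (t := Finset.univ)
          (lt_of_le_of_lt Finset.card_le_two (by rw [Finset.card_univ]; omega))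
        simp only [Finset.mem_insert, Finset.mem_singleton, not_or, Subtype.ext_iff, OneMemClass.coe_one] at h₁ h₂
        obtain ⟨r₁, hr₁, rfl, hs₁⟩ := hsign _ hy₁
        obtain ⟨r₂, hr₂, rfl, hs₂⟩ := hsign _ hy₂
        rcases hs₁ with hs₁ | hs₁
        · exact ⟨r₁, hr₁, fun h => h₁ ((hπ1 r₁).2 h), hs₁⟩
        rcases hs₂ with hs₂ | hs₂
        · exact ⟨r₂, hr₂, fun h => h₂.1 ((hπ1 r₂).2 h), hs₂⟩
        refine ⟨r₁ * r₂, mul_mem hr₁ hr₂, fun h => h₂.2 ?_, Units.ext ?_⟩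
        · have h12 : π r₁ * π r₂ = 1 := by rw [← map_mul]; exact (hπ1 _).2 h
          have hself : π r₁ * π r₁ = 1 := by
            rw [← map_mul, hπ1, Subgroup.coe_mul]
            rcases hP.square r₁ hr₁ with h | h
            · exact ⟨1, by rw [Units.val_mul, h, one_smul]⟩
            · exact ⟨-1, by rw [Units.val_mul, h, neg_one_smul]⟩
          exact mul_left_cancel (h12.trans hself.symm)
        · simp only [Subgroup.coe_mul, Units.val_mul]
          rw [← mul_assoc, hs₁, neg_mul, mul_assoc, hs₂, mul_neg, neg_neg, mul_assoc]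
      obtain ⟨z, c, hz, hc0, he⟩ := hP.exists_invo hr hrns
      have hwz : ((w : GL (Fin 8) F) : Matrix (Fin 8) (Fin 8) F) * z = (z : Matrix (Fin 8) (Fin 8) F) * ((w : GL (Fin 8) F) : Matrix (Fin 8) (Fin 8) F) := by
        have e := congrArg (fun t : GL (Fin 8) F => (t : Matrix (Fin 8) (Fin 8) F)) hrc
        simp only [Units.val_mul, he, mul_smul_comm, smul_mul_assoc] at e
        exact smul_right_injective _ hc0 e
      obtain ⟨s, hs⟩ : ∃ s : M, s = x * ⟨hv.G hP, hGM hv⟩ * x⁻¹ := ⟨_, rfl⟩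
      have hsv : ((s : GL (Fin 8) F) : Matrix (Fin 8) (Fin 8) F) = sp ((w : GL (Fin 8) F) : Matrix (Fin 8) (Fin 8) F) 1 i := by
        rw [hs, hw]
        simp only [Subgroup.coe_mul, Subgroup.coe_inv, Units.val_mul]
        rw [hv.G_val, sp_conj (Units.mul_inv _)]
      refine ⟨π s, (hnorm s).2 (hcen z hz s s.2 (Units.ext ?_)), ?_⟩
      · rw [Units.val_mul, Units.val_mul, hsv]
        exact (sp_comm hwz.symm 1 i).symm
      · rw [← map_mul, hs, hw, show x * (⟨hv.G hP, hGM hv⟩ : M) * x⁻¹ * (x * ⟨hv.G hP, hGM hv⟩ * x⁻¹) =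
          x * ((⟨hv.G hP, hGM hv⟩ : M) * ⟨hv.G hP, hGM hv⟩) * x⁻¹ by group,
          show (⟨hv.G hP, hGM hv⟩ : M) * ⟨hv.G hP, hGM hv⟩ = v from Subtype.ext (hv.G_sq hP)]
    · obtain ⟨a, ha⟩ : ∃ a, Invo R a := by
        obtain ⟨r, hr⟩ : ∃ r : R, ¬ IsScal (r : GL (Fin 8) F) := by
          by_contra h
          push Not at h
          have htop : Subgroup.center R = ⊤ := eq_top_iff.2 fun r _ => (hR.center_mem r).2 (h r)
          have := hR.card_center
          rw [htop, Subgroup.card_top, hR.card] at this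
          omega
        obtain ⟨v, c, hv, -, -⟩ := hP.exists_invo r.2 hr
        exact ⟨v, hv⟩
      obtain ⟨c, hc, hac⟩ := ha.exists_anti hP
      obtain ⟨y, hy, hya, hyc⟩ := hR.exists_perp (by norm_num) ha hc hac
      obtain ⟨t, ht⟩ : ∃ t : M, t = ⟨hc.G hP, hGM hc⟩ * ⟨a, hRM ha.mem⟩ := ⟨_, rfl⟩
      have htv : (t : GL (Fin 8) F) = hc.G hP * a := by rw [ht]; rfl
      have htt : IsScal ((t : GL (Fin 8) F) * (t : GL (Fin 8) F)) := ⟨i, by
        rw [htv, show hc.G hP * a * (hc.G hP * a) = hc.G hP * a * (hc.G hP)⁻¹ * (hc.G hP * hc.G hP * a) by group,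
          hc.G_sq hP, Units.val_mul, hc.G_anti hP hac, Units.val_mul, smul_mul_assoc,
          show (c : Matrix (Fin 8) (Fin 8) F) * a * (c * a) = -1 by
            rw [mul_assoc, ← mul_assoc (a : Matrix (Fin 8) (Fin 8) F), hac, neg_mul, mul_assoc, ha.sq, mul_one, mul_neg,
              hc.sq], smul_neg, neg_smul, neg_neg]⟩
      have htn : (t : GL (Fin 8) F) ∈ Subgroup.normalizer (R : Set (GL (Fin 8) F)) :=
        htv ▸ Subgroup.mul_mem _ (hc.G_mem_normalizer hP) (Subgroup.le_normalizer ha.mem)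
      -- movement by `t`
      have hmov : ∀ z ∈ A, UFusion.mov (π t) z = 1 ∨ UFusion.mov (π t) z = π ⟨c, hRM hc.mem⟩ := by
        intro z hz
        obtain ⟨r, hr, rfl⟩ := hlift z hz
        rw [UFusion.mov, ← map_inv, ← map_mul, ← map_mul, ← map_mul]
        have h1 : Sim (a * (r : GL (Fin 8) F) * a⁻¹) (r : GL (Fin 8) F) := by
          rcases hP.sign a ha.mem r hr with h | h
          · exact ⟨1, by rw [Units.val_mul, Units.val_mul, h, mul_assoc, Units.mul_inv, mul_one, one_smul]⟩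
          · exact ⟨-1, by rw [Units.val_mul, Units.val_mul, h, neg_mul, mul_assoc, Units.mul_inv, mul_one, neg_one_smul]⟩
        have h2 : Sim ((t : GL (Fin 8) F) * (r : GL (Fin 8) F) * (t : GL (Fin 8) F)⁻¹)
            (hc.G hP * (r : GL (Fin 8) F) * (hc.G hP)⁻¹) := by
          rw [htv, show hc.G hP * a * (r : GL (Fin 8) F) * (hc.G hP * a)⁻¹ =
            hc.G hP * (a * (r : GL (Fin 8) F) * a⁻¹) * (hc.G hP)⁻¹ by group]
          exact h1.conj _
        rcases hP.sign r hr c hc.mem with h | h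
        · refine Or.inl ((hπ1 _).2 ?_)
          rw [hc.G_comm hP h] at h2
          obtain ⟨d, hd⟩ := (h2.mul_left (r : GL (Fin 8) F))
          rcases hP.square r hr with e | e
          · exact ⟨d, by rw [show ((r * (t * r * t⁻¹) : M) : GL (Fin 8) F) = (r : GL (Fin 8) F) * ((t : GL (Fin 8) F) * (r : GL (Fin 8) F) * (t : GL (Fin 8) F)⁻¹) from rfl, hd, Units.val_mul, e]⟩
          · exact ⟨-d, by rw [show ((r * (t * r * t⁻¹) : M) : GL (Fin 8) F) = (r : GL (Fin 8) F) * ((t : GL (Fin 8) F) * (r : GL (Fin 8) F) * (t : GL (Fin 8) F)⁻¹) from rfl, hd, Units.val_mul, e, smul_neg, neg_smul]⟩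
        · refine Or.inr ((hπ _ _).2 ((h2.mul_left (r : GL (Fin 8) F)).trans ?_))
          refine ⟨(-i) * (if ((r : GL (Fin 8) F) : Matrix (Fin 8) (Fin 8) F) * (r : GL (Fin 8) F) = 1 then -1 else 1), ?_⟩
          rw [Units.val_mul, hc.G_anti hP h, mul_smul_comm, ← mul_assoc, h, neg_mul, mul_assoc]
          by_cases e : ((r : GL (Fin 8) F) : Matrix (Fin 8) (Fin 8) F) * (r : GL (Fin 8) F) = 1
          · rw [if_pos e, e, mul_one, smul_neg, mul_smul, neg_one_smul, smul_neg]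
          · rw [if_neg e, (hP.square r hr).resolve_left e, mul_neg, mul_one, neg_neg, mul_one]
      have hcns : π ⟨c, hRM hc.mem⟩ ≠ 1 := fun h => hc.nsc ((hπ1 _).1 h)
      refine ⟨π t, (hnorm t).2 htn, ?_, ⟨_, hπA ⟨a, hRM ha.mem⟩ ha.mem, ?_⟩, π ⟨y, hRM hy.mem⟩,
        hπA ⟨y, hRM hy.mem⟩ hy.mem, fun h => hy.nsc ((hπ1 _).1 h), ?_, fun z hz h => ?_⟩
      · rw [← map_mul]
        exact (hπ1 _).2 htt
      · rw [UFusion.mov, ← map_inv, ← map_mul, ← map_mul, ← map_mul, Ne, hπ1]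
        rintro ⟨d, hd⟩
        refine hc.nsc ⟨-(i * d), ?_⟩
        rw [show ((⟨a, hRM ha.mem⟩ * (t * ⟨a, hRM ha.mem⟩ * t⁻¹) : M) : GL (Fin 8) F) =
          a * (hc.G hP * a * a * (hc.G hP * a)⁻¹) by rw [ht]; rfl,
          show a * (hc.G hP * a * a * (hc.G hP * a)⁻¹) = a * (hc.G hP * a * (hc.G hP)⁻¹) by group,
          Units.val_mul, hc.G_anti hP hac, mul_smul_comm, ← mul_assoc, hac, neg_mul, mul_assoc, ha.sq, mul_one,
          smul_neg, neg_smul, neg_neg] at hd
        rw [neg_smul, mul_smul, ← hd, smul_smul, hP.ii, neg_one_smul, neg_neg]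
      · rw [← map_mul, ← map_mul]
        congr 1
        refine Subtype.ext (Units.ext ?_)
        rw [ht]
        simp only [Subgroup.coe_mul, Units.val_mul]
        rw [mul_assoc, ← hya, ← mul_assoc, hc.G_val, ← sp_comm hyc, mul_assoc]
      · rcases hmov z hz with e | e <;> rw [e] at h
        · exact hy.nsc ((hπ1 _).1 h.symm)
        · obtain ⟨d, hd⟩ := (hπ _ _).1 h
          change (c : Matrix (Fin 8) (Fin 8) F) = d • (y : Matrix (Fin 8) (Fin 8) F) at hd
          refine neg_comm_ne hP.two hac (Units.ext ?_)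
          rw [Units.val_mul, Units.val_mul, hd, mul_smul_comm, smul_mul_assoc, hya]
  intro x hx
  exact (hnorm ⟨x, hx⟩).1 (UFusion.normal hA _)

/-- **The two-group clause of class six in dimension eight**, given the involution centralisers. -/
theorem su8_pauli_maximal_of_cen (hF : Fintype.card F = q ^ 2) (hq : q.Prime) (hq4 : q % 4 = 3)
    (hsymp : IsSymplecticTypeGroup 2 R) (habs : ActsAbsolutelyIrreducibly (matrixSet R)) (hiso : R ≤ Cfsg.GU 8 F q)
    (hcardR : Nat.card R = 256) (hz : Nat.card (Subgroup.center R) = 4)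
    (hcen : ∀ i : F, UPauli (q := q) R i → ∀ M : Subgroup (GL (Fin 8) F),
      Subgroup.normalizer (R : Set (GL (Fin 8) F)) ⊓ (Cfsg.GU 8 F q ⊓ specialLinear (Fin 8) F) ≤ M →
      M ≤ Cfsg.GU 8 F q ⊓ specialLinear (Fin 8) F → M ≠ Cfsg.GU 8 F q ⊓ specialLinear (Fin 8) F →
      ∀ u, Invo R u → ∀ h ∈ M, h * u = u * h → h ∈ Subgroup.normalizer (R : Set (GL (Fin 8) F))) :
    IsMaximalIn (Cfsg.GU 8 F q ⊓ specialLinear (Fin 8) F)
      (subgroupNormalizer R ⊓ (Cfsg.GU 8 F q ⊓ specialLinear (Fin 8) F)) := by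
  obtain ⟨i, hR⟩ := upauli_of_data hF hq hq4 hsymp habs hiso hcardR hz
  refine ⟨lt_of_le_of_ne inf_le_right fun e => hR.not_le_normalizer hF (e.ge.trans inf_le_left), fun M hN hM => ?_⟩
  by_cases hne : M = Cfsg.GU 8 F q ⊓ specialLinear (Fin 8) F
  · exact Or.inr hne
  · exact Or.inl (le_antisymm (le_inf (hR.le_normalizer_of_cen hF hN hM (hcen i hR M hN hM hne)) hM) hN)

end CfsgLib.Perm.Trans.PauliMax.UP
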