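import Cfsg.Agent.Lib.Perm.Trans.PauliMax.Unit.Block
import Cfsg.Agent.Lib.Perm.Trans.PauliMax.Unit.Four
import Cfsg.Agent.Lib.Classical.WeilSU.Final

/-!
# The action of an involution centraliser on an eigenspace normalises the group there
-/

set_option autoImplicit false
set_option linter.all false

namespace CfsgLib.Perm.Trans.PauliMax.UP

open scoped Matrix
open Matrix Cfsg.Geo CfsgLib.Perm.Asch CfsgLib.Perm.Trans CfsgLib.Perm.Trans.PauliMax

variable {F : Type*} [Field F] {q : ℕ}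

section General

variable {n : ℕ} {R : Subgroup (GL (Fin n) F)} {i : F}

theorem UPauli.le_SU (hR : UPauli (q := q) R i) {k : ℕ} (hk : n = 2 * (2 * k)) :
    R ≤ Cfsg.GU n F q ⊓ specialLinear (Fin n) F := fun r hr => ⟨hR.iso hr, by
  refine Units.ext ?_
  rw [Matrix.GeneralLinearGroup.val_det_apply, hR.mem_det hr hk, Units.val_one]⟩

theorem UPauli.le_normalizer (hR : UPauli (q := q) R i) {k : ℕ} (hk : n = 2 * (2 * k)) :
    R ≤ Subgroup.normalizer (R : Set (GL (Fin n) F)) ⊓ (Cfsg.GU n F q ⊓ specialLinear (Fin n) F) :=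
  le_inf Subgroup.le_normalizer (hR.le_SU hk)

/-- a multiple of an element whose square is a sign is an element -/
theorem UPauli.mem_of_sim (hR : UPauli (q := q) R i) {g r : GL (Fin n) F} (hr : r ∈ R) (h : Sim g r)
    (hg : g * g = 1 ∨ g * g = -1) : g ∈ R := by
  haveI := hR.nonempty
  obtain ⟨c, hc⟩ := h
  have h2 : ∃ e : F, e * e = 1 ∧ (c * c) • (1 : Matrix (Fin n) (Fin n) F) = e • 1 := by
    have h1 : ((g * g : GL (Fin n) F) : Matrix (Fin n) (Fin n) F) =
        (c * c) • ((r : Matrix (Fin n) (Fin n) F) * r) := by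
      rw [Units.val_mul, hc, smul_mul_assoc, mul_smul_comm, smul_smul]
    rcases hR.pauli.square r hr with h' | h' <;> rcases hg with h'' | h'' <;> rw [h'', h'] at h1 <;>
      simp only [Units.val_one, Units.val_neg, smul_neg] at h1
    · exact ⟨1, one_mul 1, by rw [one_smul]; exact h1.symm⟩
    · exact ⟨-1, by norm_num, by rw [neg_one_smul]; exact h1.symm⟩
    · exact ⟨-1, by norm_num, by rw [neg_one_smul]; exact neg_eq_iff_eq_neg.1 h1.symm⟩
    · exact ⟨1, one_mul 1, by rw [one_smul]; exact (neg_inj.1 h1).symm⟩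
  obtain ⟨e, he, hce⟩ := h2
  have hce' := congrFun (congrFun hce (Classical.arbitrary _)) (Classical.arbitrary _)
  simp at hce'
  have h4 : c ^ 4 = 1 := by linear_combination (c * c + e) * hce' + he
  have hc0 : c ≠ 0 := fun h0 => by simp [h0] at h4
  have hm := mul_mem (hR.pauli.scal (Units.mk0 c hc0) (Units.ext (by simpa using h4))) hr
  rwa [show sch (Fin n) F (Units.mk0 c hc0) * r = g from Units.ext (by
    rw [Units.val_mul, sch_coe, smul_mul_assoc, one_mul, hc]; rfl)] at hm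

/-- scalar commutators are signs -/
theorem UPauli.fix_of_scalar (hR : UPauli (q := q) R i) {y z : GL (Fin n) F} (hz : z ∈ R)
    (h : IsScal (y * z * y⁻¹ * z⁻¹)) :
    (z : Matrix (Fin n) (Fin n) F) * y = (y : Matrix (Fin n) (Fin n) F) * z ∨
      (z : Matrix (Fin n) (Fin n) F) * y = -((y : Matrix (Fin n) (Fin n) F) * z) := by
  haveI := hR.nonempty
  obtain ⟨c, hc⟩ := h
  have h1 : (y : Matrix (Fin n) (Fin n) F) * z = c • ((z : Matrix (Fin n) (Fin n) F) * y) := by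
    rw [← Units.val_mul, show y * z = (y * z * y⁻¹ * z⁻¹) * (z * y) by group, Units.val_mul, hc, smul_mul_assoc,
      one_mul, Units.val_mul]
  have h2 : (y : Matrix (Fin n) (Fin n) F) * ((z : Matrix (Fin n) (Fin n) F) * z) =
      (c * c) • ((z : Matrix (Fin n) (Fin n) F) * z * y) := by
    rw [← mul_assoc, h1, smul_mul_assoc, mul_assoc, h1, mul_smul_comm, smul_smul, ← mul_assoc]
  have hcc : c * c = 1 := by
    have h3 : (y : Matrix (Fin n) (Fin n) F) = (c * c) • (y : Matrix (Fin n) (Fin n) F) := by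
      rcases hR.pauli.square z hz with e | e <;> rw [e] at h2
      · rwa [mul_one, one_mul] at h2
      · rwa [mul_neg, neg_mul, mul_one, one_mul, smul_neg, neg_inj] at h2
    by_contra hne
    have h4 : ((c * c - 1) : F) • (y : Matrix (Fin n) (Fin n) F) = 0 := by rw [sub_smul, one_smul, ← h3, sub_self]
    exact y.ne_zero ((smul_eq_zero.1 h4).resolve_left (sub_ne_zero.2 hne))
  rcases mul_self_eq_one_iff.1 hcc with e | e
  · exact Or.inl (by rw [h1, e, one_smul])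
  · exact Or.inr (by rw [h1, e, neg_one_smul, neg_neg])

/-- a subgroup with the involutions and the scalars contains everything -/
theorem UPauli.le_of_invo (hR : UPauli (q := q) R i) {T : Subgroup (GL (Fin n) F)}
    (hs : ∀ r ∈ R, IsScal r → r ∈ T) (hi : ∀ v, Invo R v → v ∈ T) : R ≤ T := fun r hr => by
  by_cases hns : IsScal r
  · exact hs r hr hns
  obtain ⟨v, c, hv, hc0, he⟩ := hR.pauli.exists_invo hr hns
  have hm : r * v⁻¹ ∈ R := mul_mem hr (inv_mem hv.mem)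
  have := mul_mem (hs _ hm ⟨c, by rw [hv.inv_eq, Units.val_mul, he, smul_mul_assoc, hv.sq]⟩) (hi v hv)
  rwa [inv_mul_cancel_right] at this

end General

variable [Fintype F] {R : Subgroup (GL (Fin 8) F)} {i : F} {C : CfsgLib.SU.UCtx F q}

local notation "M8" => Matrix (Fin 8) (Fin 8) F
local notation "M4" => Matrix (Fin 4) (Fin 4) F

namespace Frame

variable (φ : Frame C R i)

/-- the restrictions of the elements of `M` commuting with `u` -/
def res (M : Subgroup (GL (Fin 8) F)) : Subgroup (GL (Fin 4) F) where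
  carrier := {a | ∃ h, ∃ hc : h * φ.u = φ.u * h, h ∈ M ∧ φ.rpG h hc = a}
  one_mem' := ⟨1, by simp, M.one_mem, Units.ext (by rw [rpG_val, Units.val_one, φ.rp_one, Units.val_one])⟩
  mul_mem' := by
    rintro _ _ ⟨s, hs, hsR, rfl⟩ ⟨t, ht, htR, rfl⟩
    exact ⟨s * t, ((show Commute s φ.u from hs).mul_left ht).eq, mul_mem hsR htR, φ.rpG_mul hs ht _⟩
  inv_mem' := by
    rintro _ ⟨s, hs, hsR, rfl⟩
    exact ⟨s⁻¹, φ.comm_inv hs, inv_mem hsR, Units.ext rfl⟩

variable {M : Subgroup (GL (Fin 8) F)}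
  (hN : Subgroup.normalizer (R : Set (GL (Fin 8) F)) ⊓ (Cfsg.GU 8 F q ⊓ specialLinear (Fin 8) F) ≤ M)
include hN

theorem w_mem : φ.w ∈ M := hN (φ.pauli.le_normalizer (k := 2) (by norm_num) φ.hw.mem)

theorem diag_mem_M {a : GL (Fin 4) F} (ha : a ∈ Subgroup.normalizer (φ.sub : Set (GL (Fin 4) F)))
    (hi : a ∈ Cfsg.GU 4 F q) (hd : (a : M4).det * (a : M4).det = 1) : φ.extG (a, a) ∈ M :=
  hN ⟨φ.diag_mem ha, φ.extG_iso hi hi, Units.ext (by
    rw [Matrix.GeneralLinearGroup.val_det_apply, φ.extG_det, hd, Units.val_one])⟩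

theorem one_sub_M {x : GL (Fin 4) F} (hx : x ∈ φ.sub) : φ.extG (1, x) ∈ M :=
  hN ⟨φ.one_sub_mem hx, φ.extG_iso (one_mem _) (φ.sub_pauli.iso hx), Units.ext (by
    rw [Matrix.GeneralLinearGroup.val_det_apply, φ.extG_det, Units.val_one, det_one,
      φ.sub_pauli.mem_det hx (k := 1) (by norm_num), one_mul, Units.val_one])⟩

theorem four_le_res :
    Subgroup.normalizer (φ.sub : Set (GL (Fin 4) F)) ⊓ (Cfsg.GU 4 F q ⊓ specialLinear (Fin 4) F) ≤ φ.res M := by
  rintro a ⟨ha, hi, hd⟩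
  have hd' : (a : M4).det = 1 := by
    have := congrArg Units.val (show Matrix.GeneralLinearGroup.det a = 1 from hd)
    rwa [Matrix.GeneralLinearGroup.val_det_apply, Units.val_one] at this
  exact ⟨_, φ.extG_comm a a, φ.diag_mem_M hN ha hi (by rw [hd', one_mul]), φ.rpG_extG a a⟩

variable (hF : Fintype.card F = q ^ 2) (hq : q.Prime) (hq4 : q % 4 = 3)
  (hM : M ≤ Cfsg.GU 8 F q ⊓ specialLinear (Fin 8) F) (hne : M ≠ Cfsg.GU 8 F q ⊓ specialLinear (Fin 8) F)
include hF hq hq4 hM hne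

/-- the restriction is not the whole special unitary group -/
theorem res_ne : ¬ Cfsg.GU 4 F q ⊓ specialLinear (Fin 4) F ≤ φ.res M := by
  intro hall
  have hR := φ.pauli
  haveI := hR.nonempty
  have hw := φ.w_mem hN
  let h : (Cfsg.SU 4 F q) →* GL (Fin 4) F := Matrix.SpecialLinearGroup.toGL.comp (Cfsg.SU 4 F q).subtype
  have hh : ∀ k, h k ∈ Cfsg.GU 4 F q ⊓ specialLinear (Fin 4) F := fun k => by
    rw [KleinSix.gu_sl_eq_map]; exact ⟨k.1, k.2, rfl⟩
  let N : Subgroup (Cfsg.SU 4 F q) := M.comap (φ.extG.comp ((MonoidHom.inr _ _).comp h))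
  haveI : N.Normal := ⟨fun k hk g => by
    obtain ⟨x, hc, hxM, hxg⟩ := hall (hh g)
    have h1 := φ.extG_rpG hc
    rw [hxg] at h1
    have h2 : φ.extG (φ.rpG (φ.w * x * φ.w) (φ.comm_w hc), h g) ∈ M := by
      rw [← φ.w_extG, h1]; exact mul_mem (mul_mem hw hxM) hw
    have h3 := mul_mem (mul_mem h2 (show φ.extG (1, h k) ∈ M from hk)) (inv_mem h2)
    rw [← map_inv, ← map_mul, ← map_mul] at h3
    show φ.extG (1, h (g * k * g⁻¹)) ∈ M
    rw [map_mul, map_mul, map_inv]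
    simpa using h3⟩
  haveI : IsSimpleGroup ((Cfsg.SU 4 F q) ⧸ Subgroup.center (Cfsg.SU 4 F q)) :=
    CfsgLib.Classical.psu_isSimple hF (by norm_num) (by norm_num)
  have hs := φ.sub_pauli
  obtain ⟨x, hx, hxs⟩ : ∃ x ∈ φ.sub, ¬ IsScal x := by
    by_contra hcon
    push Not at hcon
    have h1 := hs.card
    have h2 : Nat.card (Subgroup.center φ.sub) = Nat.card φ.sub := by
      rw [show Subgroup.center φ.sub = ⊤ from eq_top_iff.2 fun x _ => (hs.center_mem x).2 (hcon x x.2),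
        Subgroup.card_top]
    rw [hs.card_center, hs.card] at h2
    norm_num at h2
  obtain ⟨k, hk, hkx⟩ : ∃ k, k ∈ Cfsg.SU 4 F q ∧ Matrix.SpecialLinearGroup.toGL k = x := by
    have := hs.le_SU (k := 1) (by norm_num) hx
    rwa [KleinSix.gu_sl_eq_map, Subgroup.mem_map] at this
  have hkx' : h ⟨k, hk⟩ = x := hkx
  have hkN : (⟨k, hk⟩ : Cfsg.SU 4 F q) ∈ N := by
    show φ.extG (1, h ⟨k, hk⟩) ∈ M
    rw [hkx']; exact φ.one_sub_M hN hx
  have hkc : (⟨k, hk⟩ : Cfsg.SU 4 F q) ∉ Subgroup.center _ := by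
    intro hc
    refine hxs (hs.pauli.scalar_of_commute fun r hr => ?_)
    obtain ⟨l, hl, hlr⟩ : ∃ l, l ∈ Cfsg.SU 4 F q ∧ Matrix.SpecialLinearGroup.toGL l = r := by
      have := hs.le_SU (k := 1) (by norm_num) hr
      rwa [KleinSix.gu_sl_eq_map, Subgroup.mem_map] at this
    have h1 := congrArg h (Subgroup.mem_center_iff.1 hc ⟨l, hl⟩)
    rw [map_mul, map_mul, hkx', show h ⟨l, hl⟩ = r from hlr] at h1
    rw [← Units.val_mul, ← Units.val_mul, h1]
  have htop := CfsgLib.Classical.WeilSU.eq_top_of_normal (N := N)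
    (CfsgLib.Classical.WeilSU.su_perfect hF (by norm_num) (by norm_num)) hkN hkc
  refine hne (le_antisymm hM (φ.full_of_block (fun g hg => (hM hg).1) hw
    (hN ⟨φ.hw.G_mem_normalizer _, hR.G_iso C φ.hw, φ.hw.G_mem_SL _ (by simp)⟩) fun g hg => ?_))
  rw [KleinSix.gu_sl_eq_map, Subgroup.mem_map] at hg
  obtain ⟨l, hl, rfl⟩ := hg
  have h1 : φ.extG (1, h ⟨l, hl⟩) ∈ M := show (⟨l, hl⟩ : Cfsg.SU 4 F q) ∈ N from htop ▸ Subgroup.mem_top _
  rw [← φ.w_extG]
  exact mul_mem (mul_mem hw h1) hw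

/-- **Restrictions normalise the group on the eigenspace.** -/
theorem res_le : φ.res M ≤ Subgroup.normalizer (φ.sub : Set (GL (Fin 4) F)) := by
  haveI : Finite (Matrix (Fin 4) (Fin 4) F) := inferInstanceAs (Finite (Fin 4 → Fin 4 → F))
  haveI : Finite (GL (Fin 4) F) := Finite.of_injective _ Units.val_injective
  have hs := φ.sub_pauli
  haveI := hs.nonempty
  set G4 := Cfsg.GU 4 F q ⊓ specialLinear (Fin 4) F with hG4
  have hle : φ.res M ⊓ G4 ≤ Subgroup.normalizer (φ.sub : Set (GL (Fin 4) F)) :=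
    (four_dichotomy hF hq hq4 hs (le_inf (φ.four_le_res hN) inf_le_right) inf_le_right).resolve_right
      fun e => φ.res_ne hN hF hq hq4 hM hne (inf_eq_right.1 e)
  intro a ha
  have haU : a ∈ Cfsg.GU 4 F q := by
    obtain ⟨x, hc, hx, rfl⟩ := ha
    exact φ.rpG_iso (hM hx).1 hc
  have hconj : ∀ b ∈ φ.res M, b ∈ Cfsg.GU 4 F q → ∀ g ∈ φ.res M ⊓ G4, b * g * b⁻¹ ∈ φ.res M ⊓ G4 := by
    rintro b hb hbU g ⟨hg, hgU, hgS⟩
    refine ⟨(φ.res M).mul_mem ((φ.res M).mul_mem hb hg) ((φ.res M).inv_mem hb),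
      (Cfsg.GU 4 F q).mul_mem ((Cfsg.GU 4 F q).mul_mem hbU hgU) ((Cfsg.GU 4 F q).inv_mem hbU), ?_⟩
    show Matrix.GeneralLinearGroup.det (b * g * b⁻¹) = 1
    rw [map_mul, map_mul, show Matrix.GeneralLinearGroup.det g = 1 from hgS, mul_one, map_inv, mul_inv_cancel]
  have hS : φ.sub ≤ φ.res M ⊓ G4 := fun x hx =>
    ⟨φ.four_le_res hN (hs.le_normalizer (k := 1) (by norm_num) hx), hs.le_SU (k := 1) (by norm_num) hx⟩
  by_contra hna
  obtain ⟨x, hx, hxy⟩ : ∃ x ∈ φ.sub, a * x * a⁻¹ ∉ φ.sub := by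
    by_contra hcon
    push Not at hcon
    exact hna (mem_normalizer_of_conj_mem hcon)
  set y := a * x * a⁻¹ with hy
  have hyN : y ∈ Subgroup.normalizer (φ.sub : Set (GL (Fin 4) F)) := hle (hconj a ha haU x (hS hx))
  let T : Subgroup (GL (Fin 4) F) := φ.sub.comap (MulAut.conj a⁻¹).toMonoidHom
  have hT : ∀ {z}, z ∈ T ↔ a⁻¹ * z * a ∈ φ.sub := fun {z} => by
    show MulAut.conj a⁻¹ z ∈ φ.sub ↔ _
    rw [MulAut.conj_apply, inv_inv]
  by_cases hall : ∀ z ∈ φ.sub, IsScal (y * z * y⁻¹ * z⁻¹)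
  · obtain ⟨r, hr, c, hc⟩ := hs.mem_of_fix y fun z hz => hs.fix_of_scalar hz (hall z hz)
    refine hxy (hs.mem_of_sim hr ⟨c, hc⟩ ?_)
    rw [hy, show a * x * a⁻¹ * (a * x * a⁻¹) = a * (x * x) * a⁻¹ by group]
    rcases φ.sub_square hx with e | e <;> rw [e]
    · left; group
    · right; rw [mul_neg, mul_one, neg_mul, mul_inv_cancel]
  push Not at hall
  obtain ⟨z, hz, hzns⟩ := hall
  set w := y * z * y⁻¹ * z⁻¹ with hw
  have hwS : w ∈ φ.sub := mul_mem (φ.sub_conj hyN hz) (inv_mem hz)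
  have hwT : w ∈ T := hT.2 (by
    have hn := hle (hconj a⁻¹ (inv_mem ha) (inv_mem haU) z (hS hz))
    rw [inv_inv] at hn
    have h1 := mul_mem hx (φ.sub_conj hn (inv_mem hx))
    rwa [show x * (a⁻¹ * z * a * x⁻¹ * (a⁻¹ * z * a)⁻¹) = a⁻¹ * w * a by rw [hw, hy]; group] at h1)
  obtain ⟨v, c, hv, hc0, he⟩ := hs.pauli.exists_invo hwS hzns
  have hscalT : ∀ r ∈ φ.sub, IsScal r → r ∈ T := fun r hr hr' => hT.2 (by
    rw [mul_assoc, hr'.comm a, inv_mul_cancel_left]; exact hr)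
  have hvT : v ∈ T := by
    have h1 : w * v ∈ φ.sub := mul_mem hwS hv.mem
    have h2 := hscalT _ h1 ⟨c, by rw [Units.val_mul, he, smul_mul_assoc, hv.sq]⟩
    have h3 := mul_mem (inv_mem hwT) h2
    rwa [inv_mul_cancel_left] at h3
  have hle2 : φ.sub ≤ T := hs.le_of_invo hscalT fun b hb => by
    obtain ⟨g, hgU, hgN, hgd, hgs⟩ := hs.transitive C (k := 1) (by norm_num) hv hb
    have hg : g ∈ φ.res M ⊓ G4 :=
      have hgS : g ∈ G4 := ⟨hgU, Units.ext (by rw [Matrix.GeneralLinearGroup.val_det_apply, hgd, Units.val_one])⟩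
      ⟨φ.four_le_res hN ⟨hgN, hgS⟩, hgS⟩
    have hga := hle (hconj a⁻¹ (inv_mem ha) (inv_mem haU) g hg)
    rw [inv_inv] at hga
    have h1 : g * v * g⁻¹ ∈ T := hT.2 (by
      have := φ.sub_conj hga (hT.1 hvT)
      rwa [show a⁻¹ * g * a * (a⁻¹ * v * a) * (a⁻¹ * g * a)⁻¹ = a⁻¹ * (g * v * g⁻¹) * a by group] at this)
    rcases hs.sim_sign (Invo.conj_invo hv (φ.sub_conj hgN hv.mem)) hb hgs with e | e
    · rwa [Units.ext e] at h1
    · rw [show g * v * g⁻¹ = -b from Units.ext e] at h1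
      have h2 := mul_mem (hscalT (-1) (φ.neg_sub_mem φ.sub.one_mem) ⟨-1, by simp⟩) h1
      rwa [neg_mul_neg, one_mul] at h2
  refine hna ?_
  rw [← inv_mem_iff]
  refine mem_normalizer_of_conj_mem fun u hu => ?_
  rw [inv_inv]
  exact hT.1 (hle2 hu)

end Frame

end CfsgLib.Perm.Trans.PauliMax.UP
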