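import Cfsg.Agent.Lib.Perm.Trans.PauliMax.Unit.Frame
import Cfsg.Agent.Lib.Perm.Trans.PauliMax.Core

/-!
# The group on an eigenspace of an involution and the lifts of its normaliser
-/

set_option autoImplicit false
set_option linter.all false

namespace CfsgLib.Perm.Trans.PauliMax.UP

open scoped Matrix
open Matrix Cfsg.Geo CfsgLib.Perm.Asch CfsgLib.Perm.Trans CfsgLib.Perm.Trans.PauliMax

variable {F : Type*} [Field F] [Fintype F] {q : ℕ} {R : Subgroup (GL (Fin 8) F)} {i : F}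
  {C : CfsgLib.SU.UCtx F q}

local notation "M8" => Matrix (Fin 8) (Fin 8) F
local notation "M4" => Matrix (Fin 4) (Fin 4) F

namespace Frame

variable (φ : Frame C R i)

/-- extension of invertible elements -/
def extG : GL (Fin 4) F × GL (Fin 4) F →* GL (Fin 8) F where
  toFun ab :=
    { val := φ.ext ab.1 ab.2
      inv := φ.ext ((ab.1⁻¹ : GL (Fin 4) F) : M4) ((ab.2⁻¹ : GL (Fin 4) F) : M4)
      val_inv := by rw [φ.ext_mul, Units.mul_inv, Units.mul_inv, φ.ext_one]
      inv_val := by rw [φ.ext_mul, Units.inv_mul, Units.inv_mul, φ.ext_one] }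
  map_one' := Units.ext (by simp only [Prod.fst_one, Prod.snd_one, Units.val_one]; exact φ.ext_one)
  map_mul' x y := Units.ext (by rw [Units.val_mul]; exact (φ.ext_mul _ _ _ _).symm)

theorem extG_val (a b : GL (Fin 4) F) : (φ.extG (a, b) : M8) = φ.ext a b := rfl

theorem extG_comm (a b : GL (Fin 4) F) : φ.extG (a, b) * φ.u = φ.u * φ.extG (a, b) :=
  Units.ext (by rw [Units.val_mul, Units.val_mul, extG_val]; exact φ.ext_comm _ _)

theorem extG_inj {a b a' b' : GL (Fin 4) F} (h : φ.extG (a, b) = φ.extG (a', b')) : a = a' ∧ b = b' := by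
  have h1 := congrArg (fun g : GL (Fin 8) F => φ.rp (g : M8)) h
  have h2 := congrArg (fun g : GL (Fin 8) F => φ.rp (φ.W * (g : M8) * φ.W)) h
  simp only [extG_val, φ.rp_ext, φ.W_ext_W] at h1 h2
  exact ⟨Units.ext h1, Units.ext h2⟩

theorem ww (φ : Frame C R i) : φ.w * φ.w = 1 := φ.hw.mul_self

theorem w_extG (a b : GL (Fin 4) F) : φ.w * φ.extG (a, b) * φ.w = φ.extG (b, a) :=
  Units.ext (by rw [Units.val_mul, Units.val_mul, extG_val, extG_val]; exact φ.W_ext_W _ _)

theorem w_swap (a b : GL (Fin 4) F) : φ.w * φ.extG (a, b) = φ.extG (b, a) * φ.w := by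
  rw [← φ.w_extG a b, mul_assoc (φ.w * _), φ.ww, mul_one]

theorem extG_one_neg : φ.extG (1, -1) = φ.u := Units.ext (by
  rw [extG_val, Units.val_neg, Units.val_one]; exact φ.ext_one_neg)

theorem w_conj_u : φ.w * φ.u = -(φ.u * φ.w) :=
  Units.ext (by rw [Units.val_mul, Units.val_neg, Units.val_mul]; exact φ.WU)

theorem extG_iso {a b : GL (Fin 4) F} (ha : a ∈ Cfsg.GU 4 F q) (hb : b ∈ Cfsg.GU 4 F q) :
    φ.extG (a, b) ∈ Cfsg.GU 8 F q := by
  rw [mem_GU C, extG_val, φ.adj_ext, φ.ext_mul, (mem_GU C).1 ha, (mem_GU C).1 hb, φ.ext_one]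

theorem extG_det (a b : GL (Fin 4) F) : (φ.extG (a, b) : M8).det = (a : M4).det * (b : M4).det :=
  φ.det_ext _ _

theorem comm_mat {h : GL (Fin 8) F} (hc : h * φ.u = φ.u * h) : (h : M8) * φ.U = φ.U * h := by
  rw [← Units.val_mul, hc, Units.val_mul]

theorem comm_inv {h : GL (Fin 8) F} (hc : h * φ.u = φ.u * h) : h⁻¹ * φ.u = φ.u * h⁻¹ :=
  ((show Commute h φ.u from hc).inv_left).eq

theorem comm_w {h : GL (Fin 8) F} (hc : h * φ.u = φ.u * h) : φ.w * h * φ.w * φ.u = φ.u * (φ.w * h * φ.w) := by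
  have h1 := φ.w_conj_u
  calc φ.w * h * φ.w * φ.u = φ.w * h * (φ.w * φ.u) := by group
    _ = -(φ.w * (h * φ.u) * φ.w) := by rw [h1, mul_neg]; group
    _ = -(φ.w * φ.u * h * φ.w) := by rw [hc]; group
    _ = φ.u * (φ.w * h * φ.w) := by rw [h1, neg_mul, neg_mul, neg_neg]; group

/-- restriction of an invertible element commuting with `u` -/
def rpG (h : GL (Fin 8) F) (hc : h * φ.u = φ.u * h) : GL (Fin 4) F where
  val := φ.rp h
  inv := φ.rp ((h⁻¹ : GL (Fin 8) F) : M8)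
  val_inv := by rw [← φ.rp_mul (φ.comm_mat (φ.comm_inv hc)), Units.mul_inv, φ.rp_one]
  inv_val := by rw [← φ.rp_mul (φ.comm_mat hc), Units.inv_mul, φ.rp_one]

theorem rpG_val (h : GL (Fin 8) F) (hc : h * φ.u = φ.u * h) : (φ.rpG h hc : M4) = φ.rp h := rfl

theorem rpG_congr {g h : GL (Fin 8) F} (e : g = h) (hg : g * φ.u = φ.u * g) (hh : h * φ.u = φ.u * h) :
    φ.rpG g hg = φ.rpG h hh := by subst e; rfl

theorem rpG_mul {g h : GL (Fin 8) F} (hg : g * φ.u = φ.u * g) (hh : h * φ.u = φ.u * h)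
    (hgh : g * h * φ.u = φ.u * (g * h)) : φ.rpG (g * h) hgh = φ.rpG g hg * φ.rpG h hh :=
  Units.ext (by rw [Units.val_mul, rpG_val, rpG_val, rpG_val, Units.val_mul, φ.rp_mul (φ.comm_mat hh)])

theorem rpG_extG (a b : GL (Fin 4) F) : φ.rpG _ (φ.extG_comm a b) = a :=
  Units.ext (by rw [rpG_val, extG_val, φ.rp_ext])

theorem extG_rpG {h : GL (Fin 8) F} (hc : h * φ.u = φ.u * h) :
    φ.extG (φ.rpG h hc, φ.rpG (φ.w * h * φ.w) (φ.comm_w hc)) = h :=
  Units.ext (by
    rw [extG_val, rpG_val, rpG_val, Units.val_mul, Units.val_mul]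
    exact φ.ext_rp (φ.comm_mat hc))

theorem rpG_iso {h : GL (Fin 8) F} (hh : h ∈ Cfsg.GU 8 F q) (hc : h * φ.u = φ.u * h) :
    φ.rpG h hc ∈ Cfsg.GU 4 F q := by
  rw [mem_GU C, rpG_val, show adj C (φ.rp (h : M8)) = φ.rp (adj C (h : M8)) by
    simp only [rp, adj_mul, adj_adj, Matrix.mul_assoc], ← φ.rp_mul (φ.comm_mat hc), (mem_GU C).1 hh, φ.rp_one]

theorem kernel {t : GL (Fin 8) F} (ht : t ∈ R) (hc : t * φ.u = φ.u * t) {c : F} (h : φ.rp (t : M8) = c • 1) :
    IsScal t ∨ IsScal (t * φ.u) := by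
  by_contra hcon
  push Not at hcon
  have hR := φ.pauli
  have h1 : (t : M8) * φ.P = c • φ.P := by
    have e : φ.J * φ.rp (t : M8) * φ.E = φ.P * (t : M8) * φ.P := φ.JrpE _
    rwa [← φ.comm_P (φ.comm_mat hc), mul_assoc, φ.PP, h, Matrix.mul_smul, Matrix.mul_one, Matrix.smul_mul, φ.JE,
      eq_comm] at e
  have h2 : (t : M8) + (t : M8) * φ.U = c • (1 + φ.U) := by
    have h3 := congrArg (fun X => (2 : F) • X) h1
    simp only [P, sp, mul_add, mul_smul_comm, mul_one, smul_add, smul_smul, add_zero, sub_zero] at h3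
    have := φ.two
    rw [smul_add]
    field_simp at h3
    simpa [one_smul] using h3
  have h3 := congrArg Matrix.trace h2
  rw [trace_add, trace_smul, trace_add, trace_one, ← Units.val_mul, hR.trace_zero ht hcon.1,
    hR.trace_zero (mul_mem ht φ.hu.mem) hcon.2, hR.trace_zero φ.hu.mem φ.hu.nsc, Fintype.card_fin, add_zero,
    add_zero, smul_eq_mul] at h3
  have hc0 : c = 0 := (mul_eq_zero.1 h3.symm).resolve_right hR.nF
  rw [hc0, zero_smul] at h
  exact (φ.rpG t hc).ne_zero h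

/-- the group on the fixed space -/
def sub : Subgroup (GL (Fin 4) F) where
  carrier := {a | ∃ t, ∃ hc : t * φ.u = φ.u * t, t ∈ R ∧ φ.rpG t hc = a}
  one_mem' := ⟨1, by simp, R.one_mem, Units.ext (by rw [rpG_val, Units.val_one, φ.rp_one, Units.val_one])⟩
  mul_mem' := by
    rintro _ _ ⟨s, hs, hsR, rfl⟩ ⟨t, ht, htR, rfl⟩
    exact ⟨s * t, ((show Commute s φ.u from hs).mul_left ht).eq, mul_mem hsR htR, φ.rpG_mul hs ht _⟩
  inv_mem' := by
    rintro _ ⟨s, hs, hsR, rfl⟩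
    exact ⟨s⁻¹, φ.comm_inv hs, inv_mem hsR, Units.ext rfl⟩

theorem mem_sub {t : GL (Fin 8) F} (ht : t ∈ R) (hc : t * φ.u = φ.u * t) : φ.rpG t hc ∈ φ.sub := ⟨t, hc, ht, rfl⟩

theorem rpG_neg {t : GL (Fin 8) F} (hc : t * φ.u = φ.u * t) :
    φ.rpG (-t) (by rw [neg_mul, mul_neg, hc]) = -φ.rpG t hc := Units.ext (by
  rw [rpG_val, Units.val_neg, Units.val_neg, rpG_val, rp, rp, Matrix.mul_neg, Matrix.neg_mul])

/-- an element commuting with `u` is the same on the two eigenspaces up to a sign -/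
theorem eq_extG {t : GL (Fin 8) F} (ht : t ∈ R) (hc : t * φ.u = φ.u * t) :
    t = φ.extG (φ.rpG t hc, φ.rpG t hc) ∨ t = φ.extG (φ.rpG t hc, -φ.rpG t hc) := by
  have h := φ.extG_rpG hc
  rcases φ.pauli.pauli.sign φ.w φ.hw.mem t ht with e | e
  · left
    have e' : φ.w * t * φ.w = t := by
      rw [show φ.w * t = t * φ.w from Units.ext e, mul_assoc, φ.ww, mul_one]
    rw [φ.rpG_congr e' (φ.comm_w hc) hc] at h
    exact h.symm
  · right
    have e' : φ.w * t * φ.w = -t := by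
      rw [show φ.w * t = -(t * φ.w) from Units.ext e, neg_mul, mul_assoc, φ.ww, mul_one]
    rw [φ.rpG_congr e' (φ.comm_w hc) (by rw [neg_mul, mul_neg, hc]), φ.rpG_neg hc] at h
    exact h.symm

theorem diag_in {x : GL (Fin 4) F} (hx : x ∈ φ.sub) : φ.extG (x, x) ∈ R ∧ φ.extG (x, -x) ∈ R := by
  obtain ⟨t, hc, ht, rfl⟩ := hx
  have hu : ∀ y, φ.u * φ.extG (y, y) = φ.extG (y, -y) ∧ φ.u * φ.extG (y, -y) = φ.extG (y, y) := fun y => by
    rw [← φ.extG_one_neg, ← map_mul, ← map_mul]; simp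
  rcases φ.eq_extG ht hc with e | e <;> rw [e] at ht
  · exact ⟨ht, (hu _).1 ▸ mul_mem φ.hu.mem ht⟩
  · exact ⟨(hu _).2 ▸ mul_mem φ.hu.mem ht, ht⟩

theorem neg_sub_mem {x : GL (Fin 4) F} (hx : x ∈ φ.sub) : -x ∈ φ.sub := by
  obtain ⟨t, hc, ht, rfl⟩ := hx
  refine ⟨-t, by rw [neg_mul, mul_neg, hc], ?_, φ.rpG_neg hc⟩
  have h1 : (-1 : GL (Fin 8) F) ∈ R := φ.pauli.scal_mem (c := -1) (by simp) (by norm_num)
  rw [← neg_one_mul]
  exact mul_mem h1 ht

/-- the group is generated by the diagonal lifts, `u` and `w` -/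
theorem normalizes {g : GL (Fin 8) F} (hd : ∀ x ∈ φ.sub, g * φ.extG (x, x) * g⁻¹ ∈ R) (hu : g * φ.u * g⁻¹ ∈ R)
    (hw : g * φ.w * g⁻¹ ∈ R) : g ∈ Subgroup.normalizer (R : Set (GL (Fin 8) F)) := by
  haveI : Finite (Matrix (Fin 8) (Fin 8) F) := inferInstanceAs (Finite (Fin 8 → Fin 8 → F))
  haveI : Finite (GL (Fin 8) F) := Finite.of_injective _ Units.val_injective
  refine mem_normalizer_of_conj_mem fun r hr => ?_
  have key : ∀ t ∈ R, t * φ.u = φ.u * t → g * t * g⁻¹ ∈ R := by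
    intro t ht hc
    have hx := φ.mem_sub ht hc
    rcases φ.eq_extG ht hc with e | e <;> rw [e]
    · exact hd _ hx
    · rw [show φ.extG (φ.rpG t hc, -φ.rpG t hc) = φ.u * φ.extG (φ.rpG t hc, φ.rpG t hc) by
        rw [← φ.extG_one_neg, ← map_mul]; simp,
        show g * (φ.u * φ.extG (φ.rpG t hc, φ.rpG t hc)) * g⁻¹ =
          (g * φ.u * g⁻¹) * (g * φ.extG (φ.rpG t hc, φ.rpG t hc) * g⁻¹) by group]
      exact mul_mem hu (hd _ hx)
  rcases φ.pauli.pauli.sign r hr φ.u φ.hu.mem with h | h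
  · exact key r hr (Units.ext h)
  · have hr' : r * φ.u = -(φ.u * r) := Units.ext h
    have h1 : r * φ.w * φ.u = φ.u * (r * φ.w) := by
      rw [mul_assoc, φ.w_conj_u, mul_neg, ← mul_assoc, hr', neg_mul, neg_neg, mul_assoc]
    have h2 := mul_mem (key _ (mul_mem hr φ.hw.mem) h1) hw
    rwa [show g * (r * φ.w) * g⁻¹ * (g * φ.w * g⁻¹) = g * (r * (φ.w * φ.w)) * g⁻¹ by group, φ.ww, mul_one] at h2

theorem sub_conj {a x : GL (Fin 4) F} (ha : a ∈ Subgroup.normalizer (φ.sub : Set (GL (Fin 4) F))) (hx : x ∈ φ.sub) :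
    a * x * a⁻¹ ∈ φ.sub :=
  (Subgroup.mem_normalizer_iff.1 ha x).1 hx

/-- diagonal lifts -/
theorem diag_mem {a : GL (Fin 4) F} (ha : a ∈ Subgroup.normalizer (φ.sub : Set (GL (Fin 4) F))) :
    φ.extG (a, a) ∈ Subgroup.normalizer (R : Set (GL (Fin 8) F)) := by
  refine φ.normalizes (fun x hx => ?_) ?_ ?_
  · rw [← map_inv, ← map_mul, ← map_mul]
    exact (φ.diag_in (φ.sub_conj ha hx)).1
  · rw [φ.extG_comm, mul_inv_cancel_right]; exact φ.hu.mem
  · rw [← φ.w_swap a a, mul_inv_cancel_right]; exact φ.hw.mem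

theorem sub_sign {x y : GL (Fin 4) F} (hx : x ∈ φ.sub) (hy : y ∈ φ.sub) : x * y = y * x ∨ x * y = -(y * x) := by
  obtain ⟨s, hs, hsR, rfl⟩ := hx
  obtain ⟨t, ht, htR, rfl⟩ := hy
  have hst : s * t * φ.u = φ.u * (s * t) := ((show Commute s φ.u from hs).mul_left ht).eq
  have hts : t * s * φ.u = φ.u * (t * s) := ((show Commute t φ.u from ht).mul_left hs).eq
  rw [← φ.rpG_mul hs ht hst, ← φ.rpG_mul ht hs hts]
  rcases φ.pauli.pauli.sign s hsR t htR with h | h
  · exact Or.inl (φ.rpG_congr (Units.ext h) _ _)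
  · refine Or.inr ((φ.rpG_congr (show s * t = -(t * s) from Units.ext h) hst (by rw [neg_mul, mul_neg, hts])).trans ?_)
    exact φ.rpG_neg hts

theorem sub_square {x : GL (Fin 4) F} (hx : x ∈ φ.sub) : x * x = 1 ∨ x * x = -1 := by
  obtain ⟨t, hc, ht, rfl⟩ := hx
  have htt : t * t * φ.u = φ.u * (t * t) := ((show Commute t φ.u from hc).mul_left hc).eq
  rw [← φ.rpG_mul hc hc htt]
  rcases φ.pauli.pauli.square t ht with h | h
  · left; exact Units.ext (by rw [rpG_val, Units.val_mul, h, φ.rp_one, Units.val_one])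
  · right; exact Units.ext (by rw [rpG_val, Units.val_mul, h, rp, Matrix.mul_neg, Matrix.neg_mul, Matrix.mul_one,
      φ.EJ, Units.val_neg, Units.val_one])

/-- the elements acting as a group element on the negated space only -/
theorem one_sub_mem {x : GL (Fin 4) F} (hx : x ∈ φ.sub) :
    φ.extG (1, x) ∈ Subgroup.normalizer (R : Set (GL (Fin 8) F)) := by
  refine φ.normalizes (fun y hy => ?_) ?_ ?_
  · rw [← map_inv, ← map_mul, ← map_mul]
    simp only [Prod.inv_mk, Prod.mk_mul_mk, one_mul, inv_one, mul_one]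
    rcases φ.sub_sign hx hy with e | e
    · rw [e, mul_inv_cancel_right]; exact (φ.diag_in hy).1
    · rw [e, neg_mul, mul_inv_cancel_right]; exact (φ.diag_in hy).2
  · rw [φ.extG_comm, mul_inv_cancel_right]; exact φ.hu.mem
  · rw [← map_inv, mul_assoc, φ.w_swap, ← mul_assoc, ← map_mul]
    simp only [Prod.inv_mk, Prod.mk_mul_mk, one_mul, inv_one, mul_one]
    refine mul_mem ?_ φ.hw.mem
    rcases φ.sub_square hx with e | e
    · rw [inv_eq_of_mul_eq_one_right e]; exact (φ.diag_in hx).1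
    · rw [show x⁻¹ = -x from inv_eq_of_mul_eq_one_right (by rw [mul_neg, e, neg_neg])]
      have := (φ.diag_in (φ.neg_sub_mem hx)).2
      rwa [neg_neg] at this

/-- the centraliser of `u` in the group -/
def cen : Subgroup R where
  carrier := {t | (t : GL (Fin 8) F) * φ.u = φ.u * (t : GL (Fin 8) F)}
  one_mem' := by simp
  mul_mem' := fun {a b} ha hb => ((show Commute (a : GL (Fin 8) F) φ.u from ha).mul_left hb).eq
  inv_mem' := fun {a} ha => φ.comm_inv ha

/-- restriction as a homomorphism -/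
def cenHom : φ.cen →* φ.sub where
  toFun t := ⟨φ.rpG ((t : R) : GL (Fin 8) F) t.2, φ.mem_sub (t : R).2 t.2⟩
  map_one' := Subtype.ext (Units.ext (by simp [rpG_val, φ.rp_one]))
  map_mul' a b := Subtype.ext (φ.rpG_mul a.2 b.2
    (((show Commute (((a : R) : GL (Fin 8) F)) φ.u from a.2).mul_left b.2).eq))

theorem cenHom_surjective : Function.Surjective φ.cenHom := by
  rintro ⟨a, t, hc, ht, rfl⟩
  exact ⟨⟨⟨t, ht⟩, hc⟩, rfl⟩

theorem kernel_one {t : GL (Fin 8) F} (ht : t ∈ R) (hc : t * φ.u = φ.u * t) (h : φ.rp (t : M8) = 1) :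
    t = 1 ∨ t = φ.u := by
  have hrp : ∀ c : F, φ.rp (c • 1) = c • 1 := fun c => by
    rw [rp, Matrix.mul_smul, Matrix.smul_mul, Matrix.mul_one, φ.EJ]
  rcases φ.kernel ht hc (c := 1) (by rw [h, one_smul]) with ⟨c, e⟩ | ⟨c, e⟩
  · rw [e, hrp] at h
    have := congrFun (congrFun h 0) 0
    simp at this
    exact Or.inl (Units.ext (by rw [e, this, one_smul, Units.val_one]))
  · have e' : (t : M8) = c • φ.U := by
      have := congrArg (· * φ.U) e
      simp only [Units.val_mul, mul_assoc, φ.hu.sq, mul_one, smul_mul_assoc, one_mul] at this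
      exact this
    rw [e', rp, Matrix.mul_smul, Matrix.smul_mul, φ.EU, φ.EJ] at h
    have := congrFun (congrFun h 0) 0
    simp at this
    exact Or.inr (Units.ext (by rw [e', this, one_smul]))

theorem card_ker : Nat.card φ.cenHom.ker = 2 := by
  rw [Nat.card_eq_two_iff]
  refine ⟨⟨1, one_mem _⟩, ⟨⟨⟨φ.u, φ.hu.mem⟩, rfl⟩, Subtype.ext (Units.ext ?_)⟩,
    fun e => φ.hu.nsc ⟨1, ?_⟩, ?_⟩
  · show φ.rp φ.U = _
    rw [rp, φ.EU, φ.EJ]
    rfl
  · have h := congrArg (fun t : φ.cenHom.ker => (((t : φ.cen) : R) : GL (Fin 8) F)) e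
    simp only [OneMemClass.coe_one] at h
    rw [← h, Units.val_one, one_smul]
  · ext ⟨⟨⟨x, hx⟩, hxc⟩, hxk⟩
    simp only [Set.mem_insert_iff, Set.mem_singleton_iff, Set.mem_univ, iff_true]
    rcases φ.kernel_one hx hxc (congrArg (fun a : φ.sub => ((a : GL (Fin 4) F) : M4)) (MonoidHom.mem_ker.1 hxk))
      with e | e
    · exact Or.inl (Subtype.ext (Subtype.ext (Subtype.ext e)))
    · exact Or.inr (Subtype.ext (Subtype.ext (Subtype.ext e)))

theorem card_R_eq : Nat.card R = 2 * Nat.card φ.cen := by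
  let g : Bool × φ.cen → R := fun x => if x.1 then (x.2 : R) * ⟨φ.w, φ.hw.mem⟩ else (x.2 : R)
  have hcross : ∀ s t : φ.cen, (s : R) * ⟨φ.w, φ.hw.mem⟩ ≠ (t : R) := fun s t e => by
    have e' := congrArg (fun z : R => (z : GL (Fin 8) F)) e
    simp only [Subgroup.coe_mul] at e'
    have h1 : φ.w = ((s : R) : GL (Fin 8) F)⁻¹ * ((t : R) : GL (Fin 8) F) := by rw [← e', inv_mul_cancel_left]
    have h2 : φ.W * φ.U = φ.U * φ.W := φ.comm_mat (h := φ.w) (by
      rw [h1]; exact ((show Commute _ φ.u from φ.comm_inv s.2).mul_left t.2).eq)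
    rw [φ.WU, eq_comm] at h2
    have h3 : (2 : F) • (φ.U * φ.W) = 0 := by rw [two_smul]; nth_rw 1 [h2]; rw [neg_add_cancel]
    exact (φ.u * φ.w).ne_zero (by rw [Units.val_mul]; exact (smul_eq_zero.1 h3).resolve_left φ.two)
  have hg : Function.Bijective g := by
    constructor
    · rintro ⟨j, s⟩ ⟨k, t⟩ h
      cases j <;> cases k <;> simp only [g, if_true, if_false, Bool.false_eq_true] at h
      · rw [Subtype.ext h]
      · exact absurd h.symm (hcross t s)
      · exact absurd h (hcross s t)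
      · rw [Subtype.ext (mul_right_cancel h)]
    · intro r
      rcases φ.pauli.pauli.sign r r.2 φ.u φ.hu.mem with h | h
      · exact ⟨(false, ⟨r, Units.ext h⟩), by simp [g]⟩
      · have h1 : (r : GL (Fin 8) F) * φ.w * φ.u = φ.u * ((r : GL (Fin 8) F) * φ.w) := by
          rw [mul_assoc, φ.w_conj_u, mul_neg, ← mul_assoc,
            show (r : GL (Fin 8) F) * φ.u = -(φ.u * r) from Units.ext h, neg_mul, neg_neg, mul_assoc]
        refine ⟨(true, ⟨⟨(r : GL (Fin 8) F) * φ.w, mul_mem r.2 φ.hw.mem⟩, h1⟩), Subtype.ext ?_⟩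
        show (r : GL (Fin 8) F) * φ.w * φ.w = r
        rw [mul_assoc, φ.ww, mul_one]
  rw [← Nat.card_congr (Equiv.ofBijective g hg), Nat.card_prod, Nat.card_eq_fintype_card, Fintype.card_bool]

/-- the group on the fixed space satisfies the hypotheses -/
theorem sub_pauli : UPauli (q := q) φ.sub i := by
  have hP := φ.pauli.pauli
  refine ⟨⟨hP.ii, hP.two, fun r hr s hs => ?_, fun r hr => ?_, fun c hc => ?_, ?_⟩, ?_, ?_, ?_⟩
  · exact (φ.sub_sign hr hs).imp (fun e => by rw [← Units.val_mul, e, Units.val_mul])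
      (fun e => by rw [← Units.val_mul, e, Units.val_neg, Units.val_mul])
  · exact (φ.sub_square hr).imp (fun e => by rw [← Units.val_mul, e, Units.val_one])
      (fun e => by rw [← Units.val_mul, e, Units.val_neg, Units.val_one])
  · have hcc : sch (Fin 8) F c * φ.u = φ.u * sch (Fin 8) F c := sch_central c φ.u
    refine ⟨sch (Fin 8) F c, hcc, hP.scal c hc, Units.ext ?_⟩
    rw [rpG_val, sch_coe, sch_coe, rp, Matrix.mul_smul, Matrix.smul_mul, Matrix.mul_one, φ.EJ]
  · refine Submodule.eq_top_iff'.2 fun X => ?_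
    have key : ∀ Y ∈ Submodule.span F (matrixSet R), φ.rp Y ∈ Submodule.span F (matrixSet φ.sub) := by
      intro Y hY
      induction hY using Submodule.span_induction with
      | mem y hy =>
        obtain ⟨r, hr, rfl⟩ := hy
        rcases hP.sign r hr φ.u φ.hu.mem with h | h
        · exact Submodule.subset_span ⟨_, φ.mem_sub hr (Units.ext h), rfl⟩
        · have h0 : φ.rp (r : M8) = 0 := by
            have h1 : φ.rp (r : M8) = -φ.rp (r : M8) := by
              conv_lhs => rw [rp, ← φ.UJ, ← Matrix.mul_assoc, Matrix.mul_assoc φ.E, h, Matrix.mul_neg, ← Matrix.mul_assoc,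
                φ.EU, Matrix.neg_mul]
              rfl
            rw [eq_neg_iff_add_eq_zero, ← two_smul F] at h1
            exact (smul_eq_zero.1 h1).resolve_left φ.two
          show φ.rp (r : M8) ∈ _
          rw [h0]
          exact Submodule.zero_mem _
      | zero => rw [rp, Matrix.mul_zero, Matrix.zero_mul]; exact Submodule.zero_mem _
      | add y z _ _ hy hz => rw [rp, Matrix.mul_add, Matrix.add_mul]; exact Submodule.add_mem _ hy hz
      | smul c y _ hy => rw [rp, Matrix.mul_smul, Matrix.smul_mul]; exact Submodule.smul_mem _ c hy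
    have := key (φ.J * X * φ.E) (hP.span.symm ▸ Submodule.mem_top)
    rwa [rp, show φ.E * (φ.J * X * φ.E) * φ.J = (φ.E * φ.J) * X * (φ.E * φ.J) by simp only [Matrix.mul_assoc],
      φ.EJ, Matrix.one_mul, Matrix.mul_one] at this
  · have h4 : ((4 : ℕ) : F) = (2 : F) * 2 := by norm_num
    rw [h4]
    exact mul_ne_zero hP.two hP.two
  · rintro _ ⟨t, hc, ht, rfl⟩
    exact φ.rpG_iso (φ.pauli.iso ht) hc
  · have h1 := φ.card_R_eq
    rw [Subgroup.card_eq_card_quotient_mul_card_subgroup φ.cenHom.ker, φ.card_ker,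
      Nat.card_congr (QuotientGroup.quotientKerEquivOfSurjective φ.cenHom φ.cenHom_surjective).toEquiv,
      φ.pauli.card] at h1
    omega

end Frame

end CfsgLib.Perm.Trans.PauliMax.UP
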